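import Cfsg.Agent.Lib.Fusion.GrpSimple
import Cfsg.Agent.Lib.St.Rigid
import Cfsg.Agent.Lib.PGroup.Frattini

/-!
The fusion system in the defining characteristic of a simple group of Lie type of rank at least two
is simple.
-/

set_option autoImplicit false
set_option linter.unusedSectionVars false

namespace Cfsg.Lib.St
open Cfsg.Lib.BN Subgroup
open scoped commutatorElement

theorem exch_two {ι W : Type*} [Group W] {s : ι → W} (h : InvGen s) (hE : Exchange s) {i k : ι}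
    {w : W} (h1 : len s w < len s (s i * w)) (h2 : len s w < len s (w * s k))
    (h3 : len s (s i * (w * s k)) < len s (w * s k)) : s i * w = w * s k := by
  obtain ⟨l, h4, rfl⟩ := h.exists_reduced w
  have h5 := h.len_mul_simple_le k (wp s l)
  have e : wp s l * s k = wp s (l ++ [k]) := by simp
  obtain ⟨l₁, j, l₂, h6, h7⟩ := hE i (l ++ [k]) (by rw [← e]; simp; omega) (by rw [← e]; exact h3.le)
  rcases l₂.eq_nil_or_concat' with rfl | ⟨l₃, k', rfl⟩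
  · obtain ⟨rfl, h8⟩ := List.append_inj' h6 rfl
    rw [← e, List.append_nil] at h7
    rw [← h.cancel_left i (wp s l * s k), h7]
  · rw [← List.cons_append, ← List.append_assoc] at h6
    obtain ⟨rfl, h8⟩ := List.append_inj' h6 rfl
    obtain rfl : k = k' := by simpa using h8
    rw [← e, ← List.append_assoc, wp_append _ _ [k], wp_singleton, ← mul_assoc,
      mul_left_inj] at h7
    have := len_wp_le s (l₁ ++ l₃)
    rw [h7] at h1
    simp at h4 this h1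
    omega

namespace LieP
variable {p : ℕ} {G : Type*} [Group G] (L : LieP p G)

local notation "ℓ" => len L.s
local notation "δ" => L.T.δ

theorem len_left (i : L.ι) (w : L.W) : ℓ (L.s i * w) = ℓ w + 1 ∨ ℓ (L.s i * w) + 1 = ℓ w :=
  L.T.invGen.len_simple_mul_ne L.T.exch i w

theorem len_right (w : L.W) (i : L.ι) : ℓ (w * L.s i) = ℓ w + 1 ∨ ℓ (w * L.s i) + 1 = ℓ w :=
  len_mul_simple_ne L.T.invGen L.T.exch w i

theorem B_or {i : L.ι} {x : G} (hx : x ∈ L.T.P {i}) : x ∈ L.T.B ∨ δ x = L.s i :=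
  (eq_simple_of_mem L.T.invGen ((L.T.mem_P (Set.subset_univ _)).1 hx)).imp_left L.T.mem_B.2

theorem mem_B_left {i : L.ι} {x g : G} (hx : x ∈ L.T.P {i}) (h : ℓ (δ g) ≤ ℓ (L.s i * δ g))
    (e : ℓ (δ (x * g)) = ℓ (δ g)) : x ∈ L.T.B :=
  (L.B_or hx).resolve_right fun h1 => by
    rw [L.T.simple_mul_of_le h1 g h] at e
    have := L.len_left i (δ g)
    omega

theorem mem_B_right {i : L.ι} {x g : G} (hx : x ∈ L.T.P {i}) (h : ℓ (δ g) ≤ ℓ (δ g * L.s i))
    (e : ℓ (δ (g * x)) = ℓ (δ g)) : x ∈ L.T.B :=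
  (L.B_or hx).resolve_right fun h1 => by
    rw [L.T.mul_simple_of_le g h1 h] at e
    have := L.len_right (δ g) i
    omega

theorem U_le_P (J : Set L.ι) : L.S.U ≤ L.T.P J := L.S.U_le.trans (L.T.B_le_P J)

/-- the normal closure of `U` in a minimal parabolic subgroup -/
def O (i : L.ι) : Subgroup G := closure {x | ∃ g ∈ L.T.P {i}, ∃ u ∈ L.S.U, x = g * u * g⁻¹}

variable {L}

theorem O_le_iff {i : L.ι} {K : Subgroup G} :
    L.O i ≤ K ↔ ∀ g ∈ L.T.P {i}, ∀ u ∈ L.S.U, g * u * g⁻¹ ∈ K :=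
  (closure_le _).trans ⟨fun h g hg u hu => h ⟨g, hg, u, hu, rfl⟩,
    fun h _ ⟨g, hg, u, hu, e⟩ => e ▸ h g hg u hu⟩

theorem O_le {i : L.ι} : L.O i ≤ L.T.P {i} :=
  O_le_iff.2 fun _ hg _ hu => mul_mem (mul_mem hg (L.U_le_P _ hu)) (inv_mem hg)

theorem U_le_O {i : L.ι} : L.S.U ≤ L.O i := fun u hu => by
  simpa using O_le_iff.1 le_rfl 1 (one_mem _) u hu

theorem conj_O {i : L.ι} {g x : G} (hg : g ∈ L.T.P {i}) (hx : x ∈ L.O i) :
    g * x * g⁻¹ ∈ L.O i :=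
  (O_le_iff (K := (L.O i).comap (MulAut.conj g).toMonoidHom)).2 (fun k hk u hu => by
    simpa [mul_assoc] using O_le_iff.1 le_rfl _ (mul_mem hg hk) u hu) hx

theorem exists_O {i : L.ι} {y : G} (hy : δ y = L.s i) :
    ∃ x ∈ L.O i, δ x = L.s i ∧ x⁻¹ * y ∈ L.T.B := by
  obtain ⟨u, hu, h⟩ := L.desc y i (by simp [hy, L.T.invGen.sq, L.len_s])
  obtain ⟨v, hv, h1⟩ := L.S.exists_simple' (Set.mem_univ i) h hy
  exact ⟨v * (y * u * y⁻¹), mul_mem (U_le_O hv) (O_le_iff.1 le_rfl _ (L.mem_P_simple hy) u hu),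
    (L.T.δ_B_mul (L.S.U_le hv) _).trans h, by simpa [mul_assoc] using h1⟩

theorem exists_thick {i : L.ι} {z : G} (hz : δ z = L.s i) :
    ∃ y ∈ L.O i, δ y = L.s i ∧ δ (z * y) = L.s i := by
  obtain ⟨u, hu, h⟩ := L.desc z i (by simp [hz, L.T.invGen.sq, L.len_s])
  obtain ⟨y, h1, h2, h3⟩ := exists_O ((L.T.δ_B_mul (L.S.U_le hu) _).trans (L.T.δ_inv_simple hz))
  refine ⟨y, h1, h2, ?_⟩
  rw [← L.T.δ_mul_B _ h3, ← h]
  congr 1; group

variable [Finite G]

/-- `U` is transitive on the chambers of a cell -/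
theorem exists_U {g g' : G} (h : δ g = δ g') : ∃ u ∈ L.S.U, g⁻¹ * u⁻¹ * g' ∈ L.T.B := by
  obtain ⟨x, -, h1, h2, -⟩ := L.S.opp Set.univ subset_rfl
  have hx : Tits.Long L.s (δ x) := fun i => h1 i trivial
  induction' hn : ℓ (δ x) - ℓ (δ g) with n ih generalizing g g'
  · have e := hx.eq_of_le L.T (w' := δ g) (by omega)
    obtain ⟨b, hb, c, hc, rfl⟩ := L.T.eq_of e.symm
    obtain ⟨b', hb', c', hc', rfl⟩ := L.T.eq_of (e.symm.trans h)
    obtain ⟨u, hu, h3⟩ := h2 _ (mul_mem (inv_mem hb) hb')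
    exact ⟨_, L.S.conj_U hb hu, by
      simpa [mul_assoc] using mul_mem (mul_mem (inv_mem hc) h3) hc'⟩
  · obtain ⟨k, hk⟩ : ∃ k, ℓ (δ g) ≤ ℓ (δ g * L.s k) := by
      by_contra! H
      rw [Tits.Long.unique L.T H hx] at hn
      omega
    obtain ⟨y, hy⟩ := L.T.surj k trivial
    have e1 := L.T.mul_simple_of_le g hy hk
    have e2 := L.T.mul_simple_of_le g' hy (h ▸ hk)
    have := L.len_right (δ g) k
    obtain ⟨u, hu, h3⟩ := ih (g := g * y) (g' := g' * y) (by rw [e1, e2, h]) (by rw [e1]; omega)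
    have h4 := L.mem_P_simple hy
    refine ⟨u, hu, L.mem_B_right (i := k) (g := g) ?_ hk ?_⟩
    · simpa [mul_assoc] using mul_mem (mul_mem h4 (L.T.B_le_P _ h3)) (inv_mem h4)
    · rw [show g * (g⁻¹ * u⁻¹ * g') = g * g⁻¹ * u⁻¹ * g' by group, mul_inv_cancel, one_mul,
        L.T.δ_B_mul (L.S.U_le (inv_mem hu)), h]

omit [Finite G] in
variable (L) in
/-- products along reduced words -/
inductive Rd (C : Subgroup G) : G → Prop
  | base {c} : c ∈ C → Rd C c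
  | step {i x g} : x ∈ L.O i → δ x = L.s i → ℓ (δ g) < ℓ (L.s i * δ g) → Rd C g → Rd C (x * g)

section Torus
variable {C : Subgroup G} (h1 : C ≤ L.T.B) (h2 : ∀ b ∈ L.T.B, ∀ c ∈ C, b * c * b⁻¹ ∈ C)
  (h3 : ∀ i, ∀ x ∈ L.O i, x ∈ L.T.B → x ∈ C)

include h1 in
theorem Rd.mul_right {g c : G} (h : L.Rd C g) (hc : c ∈ C) : L.Rd C (g * c) := by
  induction h with
  | base h => exact .base (mul_mem h hc)
  | step a1 a2 a3 _ ih => exact mul_assoc _ _ c ▸ .step a1 a2 (by rwa [L.T.δ_mul_B _ (h1 hc)]) ih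

include h2 in
theorem Rd.conj {g b : G} (h : L.Rd C g) (hb : b ∈ L.T.B) : L.Rd C (b * g * b⁻¹) := by
  induction h with
  | base h => exact .base (h2 _ hb _ h)
  | @step i x g a1 a2 a3 _ ih =>
    rw [show b * (x * g) * b⁻¹ = b * x * b⁻¹ * (b * g * b⁻¹) by group]
    exact .step (conj_O (L.T.B_le_P _ hb) a1) (by rwa [L.T.δ_BgB hb (inv_mem hb)])
      (by rwa [L.T.δ_BgB hb (inv_mem hb)]) ih

include h1 h2

theorem Rd.mul_left {g c : G} (h : L.Rd C g) (hc : c ∈ C) : L.Rd C (c * g) := by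
  simpa using (h.conj h2 (h1 hc)).mul_right h1 hc

theorem Rd.mem {g : G} (h : L.Rd C g) (hg : g ∈ L.T.B) : g ∈ C := by
  cases h with
  | base h => exact h
  | step a1 a2 a3 _ =>
    rw [← L.T.simple_mul_of_le a2 _ a3.le, L.T.mem_B.1 hg, len_one] at a3
    omega

theorem Rd.step_right {g y : G} {k : L.ι} (h : L.Rd C g) (hy : y ∈ L.O k) (hy' : δ y = L.s k)
    (hl : ℓ (δ g) < ℓ (δ g * L.s k)) : L.Rd C (g * y) := by
  induction h with
  | @base c h =>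
    rw [show c * y = c * y * c⁻¹ * c by group]
    exact .step (conj_O (L.T.B_le_P _ (h1 h)) hy) (by rwa [L.T.δ_BgB (h1 h) (inv_mem (h1 h))])
      (by simp [L.T.mem_B.1 (h1 h), L.len_s]) (.base h)
  | @step i x g a1 a2 a3 _ ih =>
    rw [L.T.simple_mul_of_le a2 _ a3.le, mul_assoc] at hl
    have b1 := L.len_right (δ g) k
    have b2 := L.len_left i (δ g * L.s k)
    rw [mul_assoc]
    exact .step a1 a2 (by rw [L.T.mul_simple_of_le _ hy' (by omega)]; omega) (ih (by omega))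

theorem Rd.cases_right {g : G} (h : L.Rd C g) : g ∈ C ∨ ∃ k y r, y ∈ L.O k ∧ δ y = L.s k ∧
    ℓ (δ r) < ℓ (δ r * L.s k) ∧ L.Rd C r ∧ g = r * y := by
  induction h with
  | base h => exact .inl h
  | @step i x g a1 a2 a3 _ ih =>
    rcases ih with h | ⟨k, y, r, b1, b2, b3, b4, rfl⟩
    · have hb := h1 h
      exact .inr ⟨i, g⁻¹ * x * g⁻¹⁻¹, g, conj_O (L.T.B_le_P _ (inv_mem hb)) a1,
        by rwa [L.T.δ_BgB (inv_mem hb) (inv_mem (inv_mem hb))],
        by simp [L.T.mem_B.1 hb, L.len_s], .base h, by group⟩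
    · rw [L.T.mul_simple_of_le _ b2 b3.le] at a3
      have c1 := L.len_left i (δ r)
      have c2 := L.len_right (L.s i * δ r) k
      rw [mul_assoc] at c2
      have c3 : ℓ (δ r) < ℓ (L.s i * δ r) := by omega
      exact .inr ⟨k, y, x * r, b1, b2, by rw [L.T.simple_mul_of_le a2 _ c3.le, mul_assoc]; omega,
        .step a1 a2 c3 b4, (mul_assoc ..).symm⟩

theorem exists_Rd (g : G) : ∃ b ∈ L.T.B, L.Rd C (g * b) := by
  refine L.T.induction (fun b hb => ⟨b⁻¹, inv_mem hb, .base (by simp [one_mem])⟩)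
    (fun i x y hx hl ⟨b, hb, h⟩ => ?_) g
  obtain ⟨x', a1, a2, a3⟩ := exists_O hx
  refine ⟨b * (x'⁻¹ * x)⁻¹, mul_mem hb (inv_mem a3), ?_⟩
  rw [show x * y * (b * (x'⁻¹ * x)⁻¹) = x' * (x'⁻¹ * x * (y * b) * (x'⁻¹ * x)⁻¹) by group]
  exact .step a1 a2 (by rwa [L.T.δ_BgB a3 (inv_mem a3), L.T.δ_mul_B _ hb]) (h.conj h2 a3)

include h3

/-- the theta graph argument -/
theorem Rd.theta {w : L.W} {i k : L.ι} (hl : ℓ w < ℓ (L.s i * w)) (e : L.s i * w = w * L.s k)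
    (hu : ∀ r r', δ r = w → L.Rd C r → L.Rd C r' → r⁻¹ * r' ∈ L.T.B → r⁻¹ * r' ∈ C)
    {r y : G} (hr : L.Rd C r) (hr' : δ r = w) (hy : y ∈ L.O k) (hy' : δ y = L.s k) :
    ∃ x ∈ L.O i, δ x = L.s i ∧ L.Rd C (x⁻¹ * (r * y)) ∧ δ (x⁻¹ * (r * y)) = w := by
  let A : G → Prop := fun g => ∃ x ∈ L.O i, L.Rd C (x⁻¹ * g) ∧ δ (x⁻¹ * g) = w
  let B : G → Prop := fun g => ∃ y ∈ L.O k, L.Rd C (g * y⁻¹) ∧ δ (g * y⁻¹) = w
  have uA : ∀ g g', A g → A g' → g⁻¹ * g' ∈ L.T.B → g⁻¹ * g' ∈ C := by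
    rintro g g' ⟨x, a1, a2, a3⟩ ⟨x', a4, a5, a6⟩ h
    have b1 := mul_mem (inv_mem a4) a1
    have b2 : x'⁻¹ * x * (x⁻¹ * g) * (g⁻¹ * g') = x'⁻¹ * g' := by group
    have b3 := h3 _ _ b1 (L.mem_B_left (O_le b1) (g := x⁻¹ * g) (by rw [a3]; exact hl.le)
      (by rw [← L.T.δ_mul_B _ h, b2, a3, a6]))
    simpa [mul_assoc] using hu _ _ ((L.T.δ_B_mul (h1 b3) _).trans a3) (a2.mul_left h1 h2 b3) a5
      (by simpa [mul_assoc] using h)
  have uB : ∀ g g', B g → B g' → g⁻¹ * g' ∈ L.T.B → g⁻¹ * g' ∈ C := by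
    rintro g g' ⟨y, a1, a2, a3⟩ ⟨y', a4, a5, a6⟩ h
    have b1 : y * (g⁻¹ * g') * y'⁻¹ ∈ L.T.B := L.mem_B_right (g := g * y⁻¹)
      (mul_mem (mul_mem (O_le a1) (L.T.B_le_P _ h)) (inv_mem (O_le a4)))
      (by rw [a3, ← e]; exact hl.le) (by rw [a3, ← a6]; congr 2; group)
    have b2 := hu _ _ a3 a2 a5 (by simpa [mul_assoc] using b1)
    have b3 := mul_mem (inv_mem a1) (conj_O (L.T.B_le_P _ b1) a4)
    simpa [mul_assoc] using mul_mem (h3 _ _ b3 (by
      simpa [mul_assoc] using mul_mem h (inv_mem b1))) b2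
  have hw : ∀ {r y}, δ r = w → δ y = L.s k → δ (r * y) = L.s i * w := fun {r y} a b => by
    rw [L.T.mul_simple_of_le _ b (by rw [a, ← e]; exact hl.le), a, e]
  have hU : L.S.U ≤ C := fun u hu => h3 i _ (U_le_O hu) (L.S.U_le hu)
  obtain ⟨x₁, g₂, a1, a2, a3⟩ := L.T.exists_split (i := i) (x := r * y)
    (by rwa [hw hr' hy', L.T.invGen.cancel_left])
  rw [hw hr' hy', L.T.invGen.cancel_left] at a2
  obtain ⟨x, a4, a5, a6⟩ := exists_O a1
  have a7 : δ (x⁻¹ * (r * y)) = w := by rw [a3, ← mul_assoc, L.T.δ_B_mul a6, a2]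
  obtain ⟨β, hβ, a8⟩ := exists_Rd h1 h2 (x⁻¹ * (r * y))
  refine ⟨x, a4, a5, ?_, a7⟩
  suffices β ∈ C by simpa using a8.mul_right h1 (inv_mem this)
  have hB : B (r * y) := ⟨y, hy, by simpa, by simpa⟩
  have cl : ∀ g, B g → δ g = L.s i * w → A (g * β) := fun g b1 b2 => by
    obtain ⟨u, b3, b4⟩ := exists_U ((hw hr' hy').trans b2.symm)
    have b5 := uB (u * (r * y)) g ⟨y, hy, by simpa [mul_assoc] using hr.mul_left h1 h2 (hU b3),
      by simpa [mul_assoc] using (L.T.δ_B_mul (L.S.U_le b3) r).trans hr'⟩ b1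
      (by simpa [mul_assoc] using b4)
    have b6 := h2 _ (inv_mem hβ) _ b5
    refine ⟨u * x, mul_mem (U_le_O b3) a4, by simpa [mul_assoc] using a8.mul_right h1 b6, ?_⟩
    rw [← a7, ← L.T.δ_mul_B (x⁻¹ * (r * y)) (mul_mem (h1 b5) hβ)]
    congr 1; group
  obtain ⟨y', b1, b2, b3⟩ := exists_thick ((L.T.δ_mul_B y hβ).trans hy')
  have b4 := cl (r * (y * β * y') * β⁻¹) ⟨y * (β * y' * β⁻¹),
    mul_mem hy (conj_O (L.T.B_le_P _ hβ) b1), by simpa [mul_assoc], by simpa [mul_assoc]⟩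
    (by rw [L.T.δ_mul_B _ (inv_mem hβ), hw hr' b3])
  have b5 : δ (x⁻¹ * (r * y) * β) = w := by rw [L.T.δ_mul_B _ hβ, a7]
  obtain ⟨x', c1, c2, c3⟩ := cl (x⁻¹ * (r * y) * β * y') ⟨y', b1, by simpa, by simpa⟩ (hw b5 b2)
  simpa [mul_assoc] using uA _ (r * (y * β * y') * β) b4 ⟨x * x', mul_mem a4 c1,
    by simpa [mul_assoc] using c2, by simpa [mul_assoc] using c3⟩ (by simpa [mul_assoc])

theorem Rd.main (n : ℕ) : (∀ g i, ℓ (δ g) = n → L.Rd C g → ℓ (L.s i * δ g) < n →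
    ∃ x ∈ L.O i, δ x = L.s i ∧ L.Rd C (x⁻¹ * g) ∧ δ (x⁻¹ * g) = L.s i * δ g) ∧
    ∀ g g', ℓ (δ g) = n → L.Rd C g → L.Rd C g' → g⁻¹ * g' ∈ L.T.B → g⁻¹ * g' ∈ C := by
  induction n with
  | zero =>
    refine ⟨fun _ _ _ _ h => absurd h (by omega), fun g g' a1 a2 a3 a4 => ?_⟩
    have := L.T.mem_B.2 (L.T.invGen.eq_one_of_len a1)
    exact mul_mem (inv_mem (a2.mem h1 h2 this)) (a3.mem h1 h2 (by simpa using mul_mem this a4))
  | succ n ih =>
    have D : ∀ g i, ℓ (δ g) = n + 1 → L.Rd C g → ℓ (L.s i * δ g) < n + 1 →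
        ∃ x ∈ L.O i, δ x = L.s i ∧ L.Rd C (x⁻¹ * g) ∧ δ (x⁻¹ * g) = L.s i * δ g := by
      intro g i a1 a2 a3
      rcases a2.cases_right h1 h2 with h | ⟨k, y, r, b1, b2, b3, b4, rfl⟩
      · rw [L.T.mem_B.1 (h1 h), len_one] at a1
        omega
      have b5 := L.T.mul_simple_of_le _ b2 b3.le
      rw [b5] at a1 a3 ⊢
      have b6 := L.len_right (δ r) k
      have b7 := L.len_left i (δ r * L.s k)
      rcases L.len_left i (δ r) with h | h
      · have e := exch_two L.T.invGen L.T.exch (i := i) (by omega) b3 (by omega)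
        rw [← e, L.T.invGen.cancel_left]
        exact Rd.theta h1 h2 h3 (by omega) e (fun r r' h => ih.2 r r' (by rw [h]; omega)) b4 rfl b1 b2
      · obtain ⟨x, c1, c2, c3, c4⟩ := ih.1 r i (by omega) b4 (by omega)
        have c5 : ℓ (δ (x⁻¹ * r)) < ℓ (δ (x⁻¹ * r) * L.s k) := by rw [c4, mul_assoc]; omega
        rw [← mul_assoc]
        exact ⟨x, c1, c2, mul_assoc x⁻¹ r y ▸ c3.step_right h1 h2 b1 b2 c5, by
          rw [← mul_assoc, L.T.mul_simple_of_le _ b2 c5.le, c4]⟩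
    refine ⟨D, fun g g' a1 a2 a3 a4 => ?_⟩
    have e : δ g' = δ g := by rw [← L.T.δ_mul_B g a4]; simp
    cases a3 with
    | base h =>
      rw [← e, L.T.mem_B.1 (h1 h), len_one] at a1
      omega
    | @step i x' r b1 b2 b3 b4 =>
      rw [L.T.simple_mul_of_le b2 _ b3.le] at e
      have b5 := L.len_left i (δ r)
      obtain ⟨x, c1, -, c3, c4⟩ := D g i a1 a2 (by rw [← e, L.T.invGen.cancel_left]; rw [← e] at a1; omega)
      rw [← e, L.T.invGen.cancel_left] at c4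
      have c5 := mul_mem (inv_mem b1) c1
      have c6 := h3 _ _ c5 (L.mem_B_left (O_le c5) (g := x⁻¹ * g) (by rw [c4]; exact b3.le)
        (by rw [← L.T.δ_mul_B _ a4, c4]; congr 2; group))
      simpa [mul_assoc] using ih.2 _ _ (by
        rw [L.T.δ_B_mul (h1 c6), c4]; rw [← e] at a1; omega) (c3.mul_left h1 h2 c6) b4
        (by simpa [mul_assoc] using a4)

theorem Rd.O_mul {i : L.ι} {x g : G} (hx : x ∈ L.O i) (h : L.Rd C g) : L.Rd C (x * g) := by
  have key : ∀ {x g}, x ∈ L.O i → L.Rd C g → ℓ (δ g) < ℓ (L.s i * δ g) → L.Rd C (x * g) :=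
    fun hx h hl => (L.B_or (O_le hx)).elim (fun e => h.mul_left h1 h2 (h3 _ _ hx e))
      fun e => .step hx e hl h
  rcases L.len_left i (δ g) with e | e
  · exact key hx h (by omega)
  · obtain ⟨y, a1, -, a3, a4⟩ := (Rd.main h1 h2 h3 _).1 g i rfl h (by omega)
    simpa [mul_assoc] using key (mul_mem hx a1) a3 (by rw [a4, L.T.invGen.cancel_left]; omega)

/-- the Borel subgroup is generated by its intersections with the groups `O i` -/
theorem B_le [IsSimpleGroup G] : L.T.B ≤ C := fun b hb => by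
  let K : Subgroup G :=
    { carrier := {x | ∀ g, L.Rd C g ↔ L.Rd C (x * g)}
      one_mem' := fun g => by simp
      mul_mem' := fun {x y} hx hy g => by rw [mul_assoc, ← hx, ← hy]
      inv_mem' := fun {x} hx g => by rw [hx (x⁻¹ * g)]; simp }
  have a1 : ⨆ i, L.O i ≤ K := iSup_le fun i x hx g => ⟨Rd.O_mul h1 h2 h3 hx, fun h => by
    simpa using Rd.O_mul h1 h2 h3 (inv_mem hx) h⟩
  have : (⨆ i, L.O i).Normal := normalizer_eq_top_iff.1 (eq_top_iff.2 (L.T.P_self ▸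
    L.T.P_le subset_rfl (fun b hb => Fusion.mem_normalizer_of_conj_mem fun x hx => (iSup_le
      (a := (⨆ i, L.O i).comap (MulAut.conj b).toMonoidHom) fun i _ h =>
        le_iSup L.O i (conj_O (L.T.B_le_P _ hb) h)) hx) fun i _ => by
      obtain ⟨x, hx⟩ := L.T.surj i trivial
      obtain ⟨y, a, b, -⟩ := exists_O hx
      exact ⟨y, le_normalizer (le_iSup L.O i a), b⟩))
  have a2 := (this.eq_bot_or_eq_top).resolve_left fun h => L.U_ne_bot
    (eq_bot_iff.2 (h ▸ (U_le_O (i := Classical.arbitrary _)).trans (le_iSup L.O _)))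
  simpa using ((a1 (a2.ge (mem_top b)) 1).1 (.base (one_mem _))).mem h1 h2 (by simpa)

end Torus

theorem irr [IsSimpleGroup G] {A : Set L.ι} (h1 : A ≠ Set.univ) (h2 : Aᶜ ≠ Set.univ) :
    ∃ i ∈ A, ∃ j ∉ A, L.s i * L.s j ≠ L.s j * L.s i := by
  by_contra! H
  have a1 : ∀ w, ∃ u ∈ WJ L.s Aᶜ, ∃ v ∈ WJ L.s A, w = u * v := fun w => by
    refine L.T.invGen.induction_left (p := fun w => ∃ u ∈ WJ L.s Aᶜ, ∃ v ∈ WJ L.s A, w = u * v)
      ⟨1, one_mem _, 1, one_mem _, by simp⟩ ?_ w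
    rintro i _ ⟨u, hu, v, hv, rfl⟩
    by_cases hi : i ∈ A
    · have : WJ L.s Aᶜ ≤ centralizer {L.s i} := (closure_le _).2 (by
        rintro _ ⟨j, hj, rfl⟩
        exact mem_centralizer_singleton_iff.2 (H i hi j hj).symm)
      exact ⟨u, hu, _, mul_mem (simple_mem_WJ hi) hv, by
        rw [← mul_assoc, ← mem_centralizer_singleton_iff.1 (this hu), mul_assoc]⟩
    · exact ⟨_, mul_mem (simple_mem_WJ hi) hu, v, hv, (mul_assoc ..).symm⟩
  have a2 : L.S.V A ≤ (L.T.P Aᶜ).normalCore := fun v hv g => by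
    obtain ⟨u, hu, w, hw, e⟩ := a1 (δ g)
    obtain ⟨a, ha, c, hc, rfl⟩ := L.T.exists_dc_of_red (Set.subset_univ _) (Set.subset_univ _)
      (x := 1) (g := g) ⟨by simp [L.T.δ_one], by simp [L.T.δ_one]⟩ hu hw (by simp [L.T.δ_one, e])
    simpa [mul_assoc] using mul_mem (mul_mem ha (L.S.V_le_P _ _
      (L.S.V_conj _ (Set.subset_univ _) c hc v hv))) (inv_mem ha)
  rcases (normalCore_normal (L.T.P Aᶜ)).eq_bot_or_eq_top with h | h
  · exact L.V_ne_bot h1 (eq_bot_iff.2 (h ▸ a2))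
  · exact L.P_ne_top h2 (eq_top_iff.2 (h ▸ normalCore_le _))

theorem len_three {i j : L.ι} (h : L.s i * L.s j ≠ L.s j * L.s i) :
    ℓ (L.s j * L.s i) = 2 ∧ ℓ (L.s i * (L.s j * L.s i)) = 3 := by
  have a1 : ℓ (L.s j * L.s i) = 2 := by
    have := L.len_left j (L.s i)
    rw [L.len_s] at this
    refine this.resolve_right fun e => h ?_
    have := L.T.invGen.eq_one_of_len (w := L.s j * L.s i) (by omega)
    rw [← L.T.invGen.cancel_left j (L.s i), this, mul_one]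
  have a2 := L.len_left i (L.s j * L.s i)
  rw [a1] at a2
  refine ⟨a1, a2.resolve_right fun e => h (exch_two L.T.invGen L.T.exch ?_ ?_ ?_)⟩
  · rw [← L.T.invGen.len_inv (_ * _), mul_inv_rev, L.T.invGen.inv, L.T.invGen.inv, a1, L.len_s]
    omega
  · rw [a1, L.len_s]; omega
  · omega

variable [hp : Fact p.Prime]

theorem mem_U_of_conj {g u : G} (hu : u ∈ L.S.U) (hb : g * u * g⁻¹ ∈ L.T.B) :
    g * u * g⁻¹ ∈ L.S.U := by
  obtain ⟨k, hk⟩ := L.S.pU ⟨u, hu⟩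
  have h1 : IsPGroup p (zpowers (g * u * g⁻¹)) := Fusion.isPGroup_zpowers (k := k) (by
    rw [conj_pow, show u ^ p ^ k = 1 from congrArg Subtype.val hk]; simp)
  exact ((L.S.pU.toSylow L.S.not_dvd).is_maximal' (L.S.pU.to_sup_of_normal_left' h1
    (zpowers_le.2 (L.normalizer_U ▸ hb))) le_sup_left).le (mem_sup_right (mem_zpowers _))

theorem mem_V {i : L.ι} {n u : G} (hn : δ n = L.s i) :
    u ∈ L.S.V {i} ↔ u ∈ L.S.U ∧ n * u * n⁻¹ ∈ L.T.B := L.S.mem_V_singleton trivial hn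

theorem conj_V {i : L.ι} {g v : G} (hg : g ∈ L.T.P {i}) (hv : v ∈ L.S.V {i}) :
    g * v * g⁻¹ ∈ L.S.V {i} := L.S.V_conj _ (Set.subset_univ _) g hg v hv

variable {T : Subgroup G} (hT : T ≤ L.S.U)
  (hs : ∀ x ∈ T, ∀ g, g * x * g⁻¹ ∈ L.S.U → g * x * g⁻¹ ∈ T)
include hT hs

theorem exists_mul_of_ne {i j : L.ι} (h : L.s i * L.s j ≠ L.s j * L.s i) (hj : ¬ T ≤ L.S.V {j})
    {u : G} (hu : u ∈ L.S.U) : ∃ t ∈ T, t⁻¹ * u ∈ L.S.V {i} := by
  obtain ⟨t, ht, ht'⟩ := SetLike.not_le_iff_exists.1 hj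
  obtain ⟨x, hx⟩ := L.T.surj j trivial
  have a1 := L.mem_P_simple hx
  have a2 : x * t * x⁻¹ ∈ L.T.P {j} := mul_mem (mul_mem a1 (L.U_le_P _ (hT ht))) (inv_mem a1)
  have a3 := (L.B_or a2).resolve_left fun e => ht' ((mem_V hx).2 ⟨hT ht, e⟩)
  have a4 : ∀ v ∈ L.S.V {j}, x * t * x⁻¹ * v * (x * t * x⁻¹)⁻¹ * v⁻¹ ∈ T := fun v hv => by
    have b1 := conj_V (inv_mem a1) hv
    have b2 := L.S.V_le _ b1
    have b3 := mul_mem ht (hs _ (inv_mem ht) _ (mul_mem (mul_mem b2 (hT (inv_mem ht))) (inv_mem b2)))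
    simpa [mul_assoc] using hs _ b3 x (L.S.V_le _ (by
      simpa [mul_assoc] using mul_mem (conj_V a2 hv) (inv_mem hv)))
  generalize x * t * x⁻¹ = y at a2 a3 a4
  obtain ⟨z, hz⟩ := L.T.surj i trivial
  obtain ⟨l2, l3⟩ := len_three h
  have hy := L.T.δ_inv_simple a3
  have b1 : ∀ {m}, δ m = L.s i → δ (y⁻¹ * m) = L.s j * L.s i := fun {m} hm => by
    rw [L.T.simple_mul_of_le hy _ (by rw [hm, l2, L.len_s]; omega), hm]
  have b2 : ∀ {m}, δ m = L.s i → δ (z * (y⁻¹ * m)) = L.s i * (L.s j * L.s i) := fun {m} hm => by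
    rw [L.T.simple_mul_of_le hz _ (by rw [b1 hm, l2, l3]; omega), b1 hm]
  have b3 : δ (u * z) = L.s i := (L.T.δ_B_mul (L.S.U_le hu) _).trans hz
  obtain ⟨e, he, b4⟩ := exists_U ((b2 hz).trans (b2 b3).symm)
  have b5 := L.mem_P_simple hz
  have b6 : z⁻¹ * e * z⁻¹⁻¹ ∈ L.T.B := L.mem_B_left (g := y⁻¹ * z)
    (mul_mem (mul_mem (inv_mem b5) (L.U_le_P _ he)) (inv_mem (inv_mem b5)))
    (by rw [b1 hz, l2, l3]; omega) (by
      rw [← L.T.δ_mul_B _ b4, b1 hz, ← b1 b3]; congr 2; group)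
  have b7 := mem_U_of_conj he b6
  have b8 : y * (z⁻¹ * e * z⁻¹⁻¹) * y⁻¹ ∈ L.T.B := L.mem_B_left (g := z)
    (mul_mem (mul_mem a2 (L.T.B_le_P _ b6)) (inv_mem a2)) (by rw [hz, l2, L.len_s]; omega)
    (by rw [← L.T.δ_mul_B _ b4, hz, ← b3]; congr 2; group)
  have b9 : z⁻¹ * e * z⁻¹⁻¹ ∈ L.S.V {i} := (mem_V hz).2 ⟨b7, by simpa [mul_assoc] using L.S.U_le he⟩
  refine ⟨_, a4 _ ((mem_V a3).2 ⟨b7, b8⟩), ?_⟩
  have := (mem_V (L.T.δ_inv_simple hz)).2 ⟨mul_mem (inv_mem (mem_U_of_conj b7 b8)) hu, by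
    simpa [mul_assoc] using b4⟩
  simpa [mul_assoc] using mul_mem b9 this

variable [IsSimpleGroup G] [Nontrivial L.ι]

theorem exists_mul (h0 : T ≠ ⊥) (i : L.ι) {u : G} (hu : u ∈ L.S.U) :
    ∃ t ∈ T, t⁻¹ * u ∈ L.S.V {i} := by
  have a1 : {j | T ≤ L.S.V {j}}ᶜ = Set.univ := by
    by_contra H
    refine (irr (A := {j | T ≤ L.S.V {j}}) (fun e => ?_) H).elim fun k ⟨hk, j, hj, h⟩ => ?_
    swap
    · obtain ⟨x, hx⟩ := L.T.surj k trivial
      obtain ⟨u, hu, e⟩ := L.desc x k (by simp [hx, L.T.invGen.sq, L.len_s])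
      obtain ⟨t, ht, h⟩ := exists_mul_of_ne hT hs h hj hu
      have := L.T.mem_B.1 ((mem_V hx).1 (by simpa using mul_mem (hk ht) h)).2
      simpa [← e, this] using L.len_s k
    · have : T.Normal := normalizer_eq_top_iff.1 (eq_top_iff.2 (L.T.P_self ▸ L.T.P_le subset_rfl
        (fun b hb => Fusion.mem_normalizer_of_conj_mem fun x hx =>
          hs x hx b (L.S.conj_U hb (hT hx))) fun i _ => by
        obtain ⟨x, hx⟩ := L.T.surj i trivial
        exact ⟨x, Fusion.mem_normalizer_of_conj_mem fun y hy => hs y hy x (L.S.V_le _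
          (conj_V (L.mem_P_simple hx) ((e.ge (Set.mem_univ i) :) hy))), hx⟩))
      exact h0 (L.eq_bot_of_isPGroup (L.S.pU.to_le hT))
  obtain ⟨k, rfl, j, -, h⟩ := irr (A := {i}) (Set.singleton_ne_univ i)
    (by simp)
  exact exists_mul_of_ne hT hs h (a1.ge (Set.mem_univ j)) hu

theorem eq_of_stronglyClosed : T = ⊥ ∨ T = L.S.U := or_iff_not_imp_left.2 fun h0 => by
  have hc : ∀ {b x}, b ∈ L.T.B → x ∈ T ⊔ ⁅L.S.U, L.S.U⁆ → b * x * b⁻¹ ∈ T ⊔ ⁅L.S.U, L.S.U⁆ :=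
    fun {b x} hb hx => (sup_le (c := (T ⊔ ⁅L.S.U, L.S.U⁆).comap (MulAut.conj b).toMonoidHom)
      (fun y hy => mem_sup_left (hs y hy b (L.S.conj_U hb (hT hy))))
      (commutator_le.2 fun y hy z hz => mem_sup_right (by
        simpa [commutatorElement_def, mul_assoc] using
          commutator_mem_commutator (L.S.conj_U hb hy) (L.S.conj_U hb hz)))) hx
  have a1 : ∀ i, ∀ g ∈ L.O i, ∀ v ∈ L.S.V {i}, v⁻¹ * (g * v * g⁻¹) ∈ T ⊔ ⁅L.S.U, L.S.U⁆ := by
    intro i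
    let D := (T ⊓ L.S.V {i}) ⊔ ⁅L.S.V {i}, L.S.V {i}⁆
    have hD : ∀ {b x}, b ∈ L.T.P {i} → x ∈ D → b * x * b⁻¹ ∈ D :=
      fun {b x} hb hx => (sup_le (c := D.comap (MulAut.conj b).toMonoidHom)
        (fun y hy => mem_sup_left (mem_inf.2
          ⟨hs y hy.1 b (L.S.V_le _ (conj_V hb hy.2)), conj_V hb hy.2⟩))
        (commutator_le.2 fun y hy z hz => mem_sup_right (by
          simpa [commutatorElement_def, mul_assoc] using
            commutator_mem_commutator (conj_V hb hy) (conj_V hb hz)))) hx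
    let K : Subgroup G :=
      { carrier := {g | g ∈ L.T.P {i} ∧ ∀ v ∈ L.S.V {i}, v⁻¹ * (g * v * g⁻¹) ∈ D}
        one_mem' := ⟨one_mem _, by simp [one_mem]⟩
        mul_mem' := fun {x y} hx hy => ⟨mul_mem hx.1 hy.1, fun v hv => by
          simpa [mul_assoc] using mul_mem (hy.2 v hv) (hx.2 _ (conj_V hy.1 hv))⟩
        inv_mem' := fun {x} hx => ⟨inv_mem hx.1, fun v hv => by
          simpa [mul_assoc] using inv_mem (hx.2 _ (conj_V (inv_mem hx.1) hv))⟩ }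
    have b1 : L.S.U ≤ K := fun u hu => by
      obtain ⟨t, ht, h⟩ := exists_mul hT hs h0 i hu
      have c1 := L.U_le_P {i} (hT ht)
      simpa using K.mul_mem (x := t) ⟨c1, fun v hv => mem_sup_left (mem_inf.2 ⟨by
        simpa [mul_assoc] using mul_mem (hs t ht v⁻¹ (mul_mem (mul_mem (inv_mem (L.S.V_le _ hv))
          (hT ht)) (inv_mem (inv_mem (L.S.V_le _ hv))))) (inv_mem ht),
        mul_mem (inv_mem hv) (conj_V c1 hv)⟩)⟩ ⟨L.S.V_le_P _ _ h, fun v hv => mem_sup_right (by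
          simpa [commutatorElement_def, mul_assoc] using commutator_mem_commutator (inv_mem hv) h)⟩
    have b2 : L.O i ≤ K := O_le_iff.2 fun g hg u hu =>
      ⟨mul_mem (mul_mem hg (b1 hu).1) (inv_mem hg), fun v hv => by
        simpa [mul_assoc] using hD hg ((b1 hu).2 _ (conj_V (inv_mem hg) hv))⟩
    exact fun g hg v hv => sup_le_sup inf_le_left
      (commutator_mono (L.S.V_le _) (L.S.V_le _)) ((b2 hg).2 v hv)
  let C : Subgroup G :=
    { carrier := {b | b ∈ L.T.B ∧ ∀ v ∈ L.S.U, v⁻¹ * (b * v * b⁻¹) ∈ T ⊔ ⁅L.S.U, L.S.U⁆}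
      one_mem' := ⟨one_mem _, by simp [one_mem]⟩
      mul_mem' := fun {x y} hx hy => ⟨mul_mem hx.1 hy.1, fun v hv => by
        simpa [mul_assoc] using mul_mem (hy.2 v hv) (hx.2 _ (L.S.conj_U hy.1 hv))⟩
      inv_mem' := fun {x} hx => ⟨inv_mem hx.1, fun v hv => by
        simpa [mul_assoc] using inv_mem (hx.2 _ (L.S.conj_U (inv_mem hx.1) hv))⟩ }
  have a2 : L.T.B ≤ C := B_le (fun _ h => h.1) (fun b hb c hc' =>
    ⟨mul_mem (mul_mem hb hc'.1) (inv_mem hb), fun v hv => by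
      simpa [mul_assoc] using hc hb (hc'.2 _ (L.S.conj_U (inv_mem hb) hv))⟩)
    fun i x hx hb => ⟨hb, fun u hu => by
      obtain ⟨t, ht, h⟩ := exists_mul hT hs h0 i hu
      have := hc (inv_mem (L.S.V_le_B _ h)) (mem_sup_left (mul_mem (inv_mem ht)
        (hs t ht x (L.S.conj_U hb (hT ht)))))
      simpa [mul_assoc] using mul_mem this (a1 i x hx _ h)⟩
  have a3 : ∀ g, ∀ x ∈ L.S.U, g * x * g⁻¹ ∈ L.S.U → x⁻¹ * (g * x * g⁻¹) ∈ T ⊔ ⁅L.S.U, L.S.U⁆ :=
    fun g x hx h => (L.T.fusion (r := fun x y => x ∈ L.S.U → y ∈ L.S.U ∧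
      x⁻¹ * y ∈ T ⊔ ⁅L.S.U, L.S.U⁆) (fun x y z h1 h2 h => ⟨(h2 (h1 h).1).1, by
        simpa [mul_assoc] using mul_mem (h1 h).2 (h2 (h1 h).1).2⟩)
      (fun b hb x _ h => ⟨L.S.conj_U hb h, (a2 hb).2 x h⟩) (fun i _ => by
        obtain ⟨x, hx⟩ := L.T.surj i trivial
        obtain ⟨n, b1, b2, -⟩ := exists_O hx
        exact ⟨n, b2, fun x _ h h' => ⟨mem_U_of_conj h' h, a1 i n b1 x ((mem_V b2).2 ⟨h', h⟩)⟩⟩)
      g (L.S.U_le hx) (L.S.U_le h) hx).2
  have a4 : commutator G = ⊤ := (Subgroup.Normal.eq_bot_or_eq_top inferInstance).resolve_left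
    fun h => by
      have : L.S.U.Normal := ⟨fun u hu g => by
        have : ⁅g, u⁆ ∈ commutator G := commutator_mem_commutator (mem_top _) (mem_top _)
        rw [h, mem_bot, commutatorElement_eq_one_iff_mul_comm, ← mul_inv_eq_iff_eq_mul] at this
        rwa [this]⟩
      exact L.U_ne_bot (L.eq_bot_of_isPGroup L.S.pU)
  have a5 : L.S.U ≤ T ⊔ ⁅L.S.U, L.S.U⁆ := by
    refine (le_inf (a4.ge.trans' le_top) le_rfl).trans
      ((commutator_inf_eq_focalSubgroup (L.S.pU.toSylow L.S.not_dvd)).le.trans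
        (closure_le _ |>.2 ?_))
    rintro _ ⟨h : _ ∈ L.S.U, x, hx : _ ∈ L.S.U, u, rfl⟩
    have := a3 u _ (inv_mem hx) (by
      simpa [commutatorElement_def, mul_assoc] using mul_mem (inv_mem hx) h)
    simpa [commutatorElement_def, mul_assoc] using this
  exact Fusion.eq_of_le_sup_commutator L.S.pU hT a5

omit hT hs
variable (L)

theorem fusion_simple_aux (S : Sylow p G) (e : L.S.U = S) :
    (groupFusionSystem (S : Subgroup G)).IsSimple p := by
  have hZ : center G = ⊥ := (Subgroup.Normal.eq_bot_or_eq_top inferInstance).resolve_right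
    fun h => by
      have : L.S.U.Normal := ⟨fun u hu g => by
        rwa [mem_center_iff.1 (h.ge (mem_top u)) g, mul_inv_cancel_right]⟩
      exact L.U_ne_bot (L.eq_bot_of_isPGroup L.S.pU)
  refine Fusion.group_simple_of S (e ▸ L.U_ne_bot) (fun T h1 h2 => ?_) fun A hA => ?_
  · rw [← e] at h1 h2 ⊢
    exact eq_of_stronglyClosed h1 h2
  have e' : normalizer (S : Set G) = L.T.B := by rw [← L.normalizer_U, e]; rfl
  refine e'.le.trans (B_le ((hA.le _).trans e'.le) (fun b hb c hc =>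
    Fusion.conj_mem_of_mem_normalizer (hA.nrm le_rfl (e'.ge hb)) hc) fun i x hx hb => ?_)
  have a1 : L.S.V {i} ≤ S := e ▸ L.S.V_le _
  have a2 := L.S.P_le_normalizer (Set.subset_univ {i})
  refine hA.ext le_rfl a1 (Fusion.centric_group_of_normal S a1 (e ▸ (L.U_le_P _).trans a2)
    (inf_le_right.trans (L.cent_le hZ (Set.singleton_ne_univ i))))
    (O_le_iff.2 (fun g hg u hu => hA.pelt a1
      (a2 (mul_mem (mul_mem hg (L.U_le_P _ hu)) (inv_mem hg))) ?_) hx) (e'.ge hb)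
  obtain ⟨k, hk⟩ := L.S.pU ⟨u, hu⟩
  exact ⟨k, by rw [conj_pow, show u ^ p ^ k = 1 from congrArg Subtype.val hk]; simp⟩

include L in
theorem fusion_simple (S : Sylow p G) : (groupFusionSystem (S : Subgroup G)).IsSimple p := by
  obtain ⟨g, hg⟩ := L.S.exists_conj_sylow S
  exact @fusion_simple_aux _ _ _ (L.congr (MulAut.conj g)) _ _ _ ‹Nontrivial L.ι› S
    (Subgroup.ext fun x => (hg (g * x * g⁻¹)).trans (by simp [mul_assoc]; rfl))

omit [IsSimpleGroup G] [Nontrivial L.ι] in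
theorem nontrivial_of_chain {a b c d : G} (ha : a ^ p = 1) (hb : b ^ p = 1) (hc : c ^ p = 1)
    (hd : d ^ p = 1) (a0 : a ≠ 1) (b0 : b ≠ 1) (c0 : c ≠ 1) (hab : a * b = b * a)
    (hbc : b * c = c * b) (hcd : c * d = d * c) (h : a * d * a = d * a * d) (h' : a ≠ d) :
    Nontrivial L.ι := by
  by_contra H
  rw [not_nontrivial_iff_subsingleton] at H
  wlog e : a ∈ L.S.U generalizing a b c d
  · obtain ⟨g, hg⟩ := L.S.exists_conj_le (Fusion.isPGroup_zpowers (x := a) (k := 1) (by simpa))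
    let φ := MulAut.conj g
    exact this (a := φ a) (b := φ b) (c := φ c) (d := φ d) (by rw [← map_pow, ha, map_one])
      (by rw [← map_pow, hb, map_one]) (by rw [← map_pow, hc, map_one])
      (by rw [← map_pow, hd, map_one]) (by simpa) (by simpa) (by simpa)
      (by rw [← map_mul, hab, map_mul]) (by rw [← map_mul, hbc, map_mul])
      (by rw [← map_mul, hcd, map_mul]) (by simp only [← map_mul, h]) (φ.injective.ne h')
      (hg a (mem_zpowers a))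
  have key : ∀ {x y}, x ∈ L.S.U → x ≠ 1 → x * y = y * x → y ^ p = 1 → y ∈ L.S.U :=
    fun {x y} h1 h2 h3 h4 => by
      obtain ⟨i⟩ := L.ne
      have e : ({i} : Set L.ι) = Set.univ := Set.eq_univ_of_forall fun _ => Subsingleton.elim _ _
      refine L.mem_U_of_pow ((L.B_or (i := i) (by rw [e, L.T.P_self]; trivial)).resolve_right
        fun h5 => h2 ?_) h4
      have := (mem_V h5).2 ⟨h1, by rw [← h3, mul_inv_cancel_right]; exact L.S.U_le h1⟩
      rwa [e, L.S.V_self] at this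
  have e' := key (key (key e a0 hab hb) b0 hbc hc) c0 hcd hd
  have a1 : zpowers a ⊔ zpowers d ≤ L.S.U := sup_le (zpowers_le.2 e) (zpowers_le.2 e')
  have a2 := mem_sup_left (T := zpowers d) (mem_zpowers a)
  have a3 := mem_sup_right (S := zpowers a) (mem_zpowers d)
  have a4 := Fusion.eq_of_le_sup_commutator (L.S.pU.to_le a1) le_sup_right (sup_le
    (zpowers_le.2 (by
      have := mul_mem (mem_sup_right (S := zpowers d) (commutator_mem_commutator
        (mul_mem a3 a2) a3)) (mem_sup_left (mem_zpowers d))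
      rwa [commutatorElement_def, ← h, show a * d * a * (d * a)⁻¹ * d⁻¹ * d = a by group] at this))
    le_sup_left)
  obtain ⟨n, rfl⟩ := a4.ge a2
  refine h' (mul_right_cancel (b := d) (mul_left_cancel (a := d ^ n) ?_))
  simp only at h ⊢
  rw [← mul_assoc, ← mul_assoc, ← zpow_add_one]
  calc _ = d ^ n * d * d ^ n := by group
    _ = _ := by rw [h]; group

end LieP
end Cfsg.Lib.St
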