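import Cfsg.Agent.Lib.Fusion.PPrime
import Cfsg.Agent.Lib.Fusion.Model
import Cfsg.Agent.Lib.Core.PSolvable
import Cfsg.Agent.Lib.Loc.CharP

/-! Residuals of constrained systems and of their models. -/

set_option autoImplicit false

namespace Cfsg.Lib.Fusion

open Subgroup Cfsg.Lib.Transfer
open Cfsg.FusionSystem hiding inv_mem
open scoped commutatorElement

variable {p : ℕ} [Fact p.Prime]

section
variable {G : Type*} [Group G] [Finite G] {H K : Subgroup G}

theorem not_dvd_relIndex_opP (H : Subgroup G) : ¬ p ∣ (opP p H).relIndex H := by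
  obtain ⟨T, -, h1, h2, h3⟩ := exists_sylowIn_ge (p := p) IsPGroup.of_bot (bot_le : ⊥ ≤ H)
  exact fun h => h3 (h.trans (relIndex_dvd_of_le_left _ (le_opP h1 h2)))

theorem exists_relIndex_opR (H : Subgroup G) : ∃ k, (opR p H).relIndex H = p ^ k :=
  Loc.exists_relIndex_res p H

theorem isPSolvable_of_relIndex (hK : K ≤ H) (hn : H ≤ normalizer (K : Set G))
    (h : (∃ k, K.relIndex H = p ^ k) ∨ ¬ p ∣ K.relIndex H) (hs : IsPSolvable p K) :
    IsPSolvable p H := by
  have := (normal_subgroupOf_iff_le_normalizer hK).2 hn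
  refine Core.isPSolvable_of_normal_quotient (K.subgroupOf H) (Core.isPSolvable_subgroupOf hs H) ?_
  rcases h with ⟨k, h⟩ | h
  · exact Core.isPSolvable_of_isPGroup (IsPGroup.of_card h)
  · exact Core.isPSolvable_of_coprime ((Nat.Prime.coprime_iff_not_dvd Fact.out).2 h).symm

theorem isPSolvable_of_opR_opP (hs : IsPSolvable p (opR p (opP p H))) : IsPSolvable p H :=
  isPSolvable_of_relIndex (opP_le p H) (le_normalizer_opP H) (Or.inr (not_dvd_relIndex_opP H))
    (isPSolvable_of_relIndex (opR_le p _) (le_normalizer_opR p _) (Or.inl (exists_relIndex_opR _)) hs)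

theorem eq_bot_of_isPSolvable (hs : IsPSolvable p H) (h1 : H ≤ opR p H) (h2 : H ≤ opP p H) :
    H = ⊥ := by
  obtain ⟨n, C, c0, c1, -, c2, c3⟩ := hs
  have key : ∀ i, C i = ⊤ := fun i => by
    induction i using Fin.reverseInduction with
    | last => exact c1
    | cast i ih =>
      have := c2 i.castSucc
      refine eq_top_iff.2 fun x _ => ?_
      rcases c3 i with ⟨m, h⟩ | h
      · rw [ih, relIndex_top_right] at h
        obtain ⟨y, hy, e⟩ := h1 x.2
        exact Subtype.ext e ▸ pResidual_le_of_index_eq_pow _ h hy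
      · rw [ih, relIndex_top_right] at h
        obtain ⟨y, hy, e⟩ := h2 x.2
        refine Subtype.ext e ▸ (closure_le (K := C i.castSucc)).2 ?_ hy
        rintro z ⟨k, hk⟩
        exact mem_of_pow_mem_of_coprime (pow_index_mem _ z) (hk ▸ (h.symm.pow_left k))
  exact eq_bot_iff.2 fun x hx => by
    have : (⟨x, hx⟩ : H) ∈ C 0 := key 0 ▸ mem_top _
    rw [c0] at this
    exact mem_bot.2 (congrArg Subtype.val (mem_bot.1 this))

variable {V W : Subgroup G} {A : FusionSystem V}

omit [Finite G] in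
theorem SylGrp.le_opP (h : SylGrp A H p) : V ≤ opP p H := Fusion.le_opP h.le h.pg

/-- In a group of characteristic `p`, the `p'`-residual of the system is the system of the
`p'`-residual. -/
theorem SylGrp.pPrimeResidual (h : SylGrp A H p) (hc : Loc.IsChP p H) {B : FusionSystem V}
    (hB : Grp B (opP p H)) : A.IsPPrimeResidual p B := by
  have hn := h.nrm_of_normal (opP_le p H) (le_normalizer_opP H) (inf_eq_left.2 h.le_opP).symm hB
  refine ⟨hn.satE.sat, hn.toInv.primeToP h.sat, fun D h1 h2 => isSubsystemOf_iff.2 fun P f hf => ?_⟩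
  have hQ := h.normal_pCoreOf
  have hQ' := h.toGrp.centric_of_centralizer_le hQ.1 hc
  have hH := Core.le_normalizer_pCoreOf p H
  obtain ⟨g, hg, e, h3, -⟩ := hB.exists_conj hf
  have h4 : cjA (opC p H) g ∈ D.autGroup (opC p H) := h2.2 _ hQ.1 (by
    rw [h.toGrp.autGroup_eq hQ.1, autInducedBy_eq_im' hH]
    exact ((homOn_cjA _).mono hH).im_opP_le (mem_im_of_mem _ hg))
  exact ((h.sat.mor_of_centric ⟨h.pg, h1⟩ h2.1 (h.toGrp.mor_conj (sup_le hf.le hQ.1)
    (opP_le p H hg) (by rw [conj_sup, conj_eq_self_iff.2 (hH (opP_le p H hg))]; exact sup_le h3 hQ.1))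
    hQ' le_sup_right ((mor_ext hQ.1 h4).congr fun x hx =>
      (ext_cjA (hH (opP_le p H hg)) hx).symm)).mono le_sup_left).congr e

end

variable {Ω Ω' : Type*} [Group Ω] [Group Ω'] {S T U : Subgroup Ω} {S' T' : Subgroup Ω'}
  {F : FusionSystem S} {E : FusionSystem T} {F' : FusionSystem S'} {E' : FusionSystem T'}
  {t : Ω → Ω'} {Q : Subgroup Ω} [Finite S]

theorem Iso.pIndex (h : Iso F F' t) (h' : Iso E E' t) (hE : E.HasPPowerIndexIn F p) :
    E'.HasPPowerIndexIn F' p := by
  obtain ⟨h1, h2, h3⟩ := pIndex_iff.1 hE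
  refine pIndex_iff.2 ⟨h.sub h' h1, by rw [← h.im_hyp, ← h'.im_eq]; exact im_mono t h2,
    fun P' hP' β hβ hc => ?_⟩
  obtain ⟨P, hP, e⟩ := h'.exists_im hP'
  have hPS := hP.trans (le_of_isSubsystemOf h1)
  obtain ⟨τ, hτ, -⟩ := h.exists_congr hPS e
  obtain ⟨α, rfl⟩ := τ.surjective β
  exact (h'.congr_mem_autGroup hP e hτ α).2 (h3 P hP α ((h.congr_mem_autGroup hPS e hτ α).1 hβ)
    (by rwa [MulEquiv.orderOf_eq] at hc))

theorem Sat.constrained_of_centralizer_hyp (hF : Sat F p) (hQ : F.IsNormal Q)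
    (h : centralizerIn (F.hyperfocalSubgroup p) Q ≤ Q) : F.IsConstrained p := by
  have hsc := stronglyClosed_of_normal hQ
  have hR := hF.stronglyClosed_sup_centralizerIn hsc
  have hn' := le_normalizer_of_stronglyClosed hsc
  refine hF.constrained_of (hF.normal_of_le_fcr (weaklyClosed_of_stronglyClosed hR)
    fun P _ hc hr => ?_) ((centralizerIn_anti S le_sup_left).trans le_sup_right)
  have hQP := le_of_normal_of_radical hF.pg hQ hc hr
  refine le_of_normalizer_le hF.pg hc.1 hR.1 (hc.1.trans (le_normalizer_of_stronglyClosed hR))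
    fun s hs hn => ?_
  obtain ⟨q, hq, c, hc', rfl⟩ := exists_mul_of_mem_sup ((centralizerIn_le _ _).trans hn') hs
  have hcn : c ∈ normalizer (P : Set Ω) :=
    (mul_mem_cancel_left (le_normalizer (hQP hq))).1 hn
  refine mul_mem (hQP hq) (mem_of_radical hc hr (K := triv P Q ⊥) (le_normalizer_triv
    (autGroup_le_stab hc.1 hsc) (autGroup_le_stab hc.1 (stronglyClosed_bot F)))
    (fun α hα hα' hco => ?_) (mkN hc'.1 hcn)
    (cjA_mem_triv hcn (le_normalizer_of_normal (mem_top c)) fun x _ hx => ?_))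
  · have e : ∀ b ∈ Q, ext α b = b := fun b hb =>
      (inv_mul_eq_one.1 (mem_bot.1 (hα'.2 b (hQP hb) hb))).symm
    exact eq_one_of_ext fun x hx => ext_eq_of_coprime (hF.pg.to_le hc.1) hco
      (fun b _ hb => e b hb) hx (h (mkC (mem_hyp hc.1 hα hco hx)
        ((homOn_ext α).inv_mul_mem_centralizer hQP e hx (hn' (hc.1 hx)))))
  · rw [mem_bot, commutatorElement_eq_one_iff_mul_comm]
    exact hc'.2 _ (inv_mem hx)

theorem Inv.constrained_of_hyp_le (h : Inv E F) (hF : Sat F p) (hT : F.hyperfocalSubgroup p ≤ T)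
    (hc : E.IsConstrained p) : F.IsConstrained p :=
  hF.constrained_of_centralizer_hyp (h.normal_core hF) fun _ hx =>
    centralizerIn_le_of_centric (centric_core hc) ⟨hT hx.1, hx.2⟩

variable {G : Type*} [Group G] [Finite G] {H V : Subgroup G} {A : FusionSystem V} {j : Ω → G}

/-- One step of the residual series in a group of characteristic `p`. -/
theorem Iso.residual_step (h : Iso F A j) (hA : SylGrp A H p) (hc : Loc.IsChP p H)
    {E : FusionSystem S} {D : FusionSystem (E.hyperfocalSubgroup p)} (hE : F.IsPPrimeResidual p E)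
    (hD : E.IsPResidual p D) : ∃ B : FusionSystem (V ⊓ opR p (opP p H)),
      Iso D B j ∧ SylGrp B (opR p (opP p H)) p ∧ Loc.IsChP p (opR p (opP p H)) := by
  have hS : IsPGroup p S := (h.sat' hA.sat).pg
  obtain ⟨E', h1⟩ := h.restrict E le_rfl h.im_eq
  obtain ⟨B₁, h2⟩ := exists_grp hA.le_opP
  obtain rfl := pPrimeResidual_unique (h.pPrimeResidual h1 hS hE) (hA.pPrimeResidual hc h2)
  have h3 := hA.of_normal (opP_le p H) (le_normalizer_opP H) (inf_eq_left.2 hA.le_opP).symm h2
  have := finite_of_le (hyp_le E p)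
  obtain ⟨D', h4⟩ := h1.restrict D (hyp_le E p) (h1.im_hyp.trans h3.hyp_eq)
  obtain ⟨B, h5⟩ := exists_grp (inf_le_right : V ⊓ opR p (opP p H) ≤ _)
  have h6 := h3.of_normal (opR_le p _) (le_normalizer_opR p _) rfl h5
  obtain rfl : D' = B := ext_mor fun _ _ => mor_iff_of_pIndex (h4.sat ⟨hS.to_le (hyp_le E p), hD.1⟩)
    h6.sat (h1.pIndex h4 hD.2) (h3.pIndex (opR_le p _) le_rfl rfl h5) rfl
  exact ⟨D', h4, h6, (hc.of_le_normalizer (opP_le p H) (le_normalizer_opP H)).of_le_normalizer
    (opR_le p _) (le_normalizer_opR p _)⟩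

omit [Finite S] in
theorem terminating_of_isPSolvable (n : ℕ) : ∀ {S : Subgroup Ω} [Finite S] {F : FusionSystem S}
    {H V : Subgroup G} {A : FusionSystem V}, Nat.card H = n → Iso F A j → SylGrp A H p →
    Loc.IsChP p H → IsPSolvable p H → F.HasTerminatingResidualSeries p := by
  induction n using Nat.strong_induction_on with
  | _ n ih =>
  intro S _ F H V A hn h hA hc hs
  by_cases h0 : H = ⊥
  · exact .trivial F p ((h.im_eq_bot_iff le_rfl).1 (h.im_eq.trans (le_bot_iff.1 (h0 ▸ hA.le))))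
  have hF := h.sat' hA.sat
  obtain ⟨E, hE, h1⟩ := hF.exists_pPrimeResidual
  obtain ⟨D, hD, -⟩ := h1.satE.exists_pResidual
  obtain ⟨B, h2, h3, h4⟩ := h.residual_step hA hc hE hD
  have := finite_of_le (hyp_le E p)
  have hle := (opR_le p (opP p H)).trans (opP_le p H)
  exact .step F E p D hE hD (ih _ (hn ▸ card_lt_of_lt (lt_of_le_of_ne hle fun e => h0
    (eq_bot_of_isPSolvable hs (e.ge.trans (opR_mono (opP_le p H))) (e.ge.trans (opR_le p _)))))
    rfl h2 h3 h4 (Core.isPSolvable_of_le hs hle))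

omit [Finite S] [Fact p.Prime] in
theorem constrained_of_terminating (h : F.HasTerminatingResidualSeries p) (hp : p.Prime)
    (hfin : Finite S) (hF : Sat F p) : F.IsConstrained p ∧ ∀ {H V : Subgroup G}
      {A : FusionSystem V}, Iso F A j → SylGrp A H p → Loc.IsChP p H → IsPSolvable p H := by
  induction h with
  | trivial F p h =>
    have := Fact.mk hp
    refine ⟨hF.constrained_of (normal_bot F) ((centralizerIn_le _ _).trans h.le),
      fun {H V A} h1 h2 _ => Core.isPSolvable_of_coprime ?_⟩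
    have := h2.syl
    rw [← h1.im_eq, (h1.im_eq_bot_iff le_rfl).2 h, relIndex_bot_left] at this
    exact ((Nat.Prime.coprime_iff_not_dvd hp).2 this).symm
  | step F E p D hE hD _ ih =>
    have := Fact.mk hp
    have h1 := hF.nrm_of_pPrimeResidual hE
    have := finite_of_le (hyp_le E p)
    have h2 := h1.satE.nrm_of_pIndex ⟨hF.pg.to_le (hyp_le E p), hD.1⟩ hD.2 (le_normalizer_hyp E p)
    obtain ⟨h3, h4⟩ := ih hp inferInstance h2.satE
    refine ⟨h1.toInv.constrained_of_hyp_le hF (hyp_le F p)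
      (h2.toInv.constrained_of_hyp_le h1.satE le_rfl h3), fun h5 h6 h7 => ?_⟩
    obtain ⟨B, k1, k2, k3⟩ := h5.residual_step h6 h7 hE hD
    exact isPSolvable_of_opR_opP (h4 k1 k2 k3)

end Cfsg.Lib.Fusion
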