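import Cfsg.Agent.Lib.Fusion.Pairs

/-! Direct products of fusion systems. -/

set_option autoImplicit false

namespace Cfsg.Lib.Fusion

open Subgroup Cfsg.Lib.Transfer
open Cfsg.FusionSystem hiding inv_mem
open scoped commutatorElement

variable {Ω₁ Ω₂ : Type*} [Group Ω₁] [Group Ω₂] {S₁ P₁ Q₁ : Subgroup Ω₁} {S₂ P₂ Q₂ : Subgroup Ω₂}
  {F₁ : FusionSystem S₁} {F₂ : FusionSystem S₂} {T P Q : Subgroup (Ω₁ × Ω₂)}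
  {E : FusionSystem T} {f : Ω₁ × Ω₂ → Ω₁ × Ω₂} {f₁ : Ω₁ → Ω₁} {f₂ : Ω₂ → Ω₂} {p : ℕ}

/-- First projection of a subgroup of a product. -/
abbrev pr1 (P : Subgroup (Ω₁ × Ω₂)) : Subgroup Ω₁ := P.map (MonoidHom.fst Ω₁ Ω₂)
/-- Second projection of a subgroup of a product. -/
abbrev pr2 (P : Subgroup (Ω₁ × Ω₂)) : Subgroup Ω₂ := P.map (MonoidHom.snd Ω₁ Ω₂)

theorem mem_pr1 {x : Ω₁ × Ω₂} (h : x ∈ P) : x.1 ∈ pr1 P := mem_map_of_mem _ h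
theorem mem_pr2 {x : Ω₁ × Ω₂} (h : x ∈ P) : x.2 ∈ pr2 P := mem_map_of_mem _ h
theorem le_prod_pr (P : Subgroup (Ω₁ × Ω₂)) : P ≤ (pr1 P).prod (pr2 P) :=
  fun _ h => ⟨mem_pr1 h, mem_pr2 h⟩
theorem pr1_le_iff : pr1 P ≤ P₁ ↔ ∀ x ∈ P, x.1 ∈ P₁ := map_le_iff_le_comap
theorem pr2_le_iff : pr2 P ≤ P₂ ↔ ∀ x ∈ P, x.2 ∈ P₂ := map_le_iff_le_comap
theorem pr1_le (h : P ≤ P₁.prod P₂) : pr1 P ≤ P₁ := pr1_le_iff.2 fun _ hx => (h hx).1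
theorem pr2_le (h : P ≤ P₁.prod P₂) : pr2 P ≤ P₂ := pr2_le_iff.2 fun _ hx => (h hx).2
theorem pr1_prod (P₁ : Subgroup Ω₁) (P₂ : Subgroup Ω₂) : pr1 (P₁.prod P₂) = P₁ :=
  le_antisymm (pr1_le le_rfl) fun x hx => ⟨(x, 1), ⟨hx, one_mem _⟩, rfl⟩
theorem pr2_prod (P₁ : Subgroup Ω₁) (P₂ : Subgroup Ω₂) : pr2 (P₁.prod P₂) = P₂ :=
  le_antisymm (pr2_le le_rfl) fun x hx => ⟨(1, x), ⟨one_mem _, hx⟩, rfl⟩

instance instFiniteProd [Finite S₁] [Finite S₂] : Finite (S₁.prod S₂) :=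
  Finite.of_equiv _ (prodEquiv S₁ S₂).symm.toEquiv

theorem isPGroup_prod (h₁ : IsPGroup p S₁) (h₂ : IsPGroup p S₂) : IsPGroup p (S₁.prod S₂) := by
  rw [Core.isPGroup_subgroup_iff] at h₁ h₂ ⊢
  intro x hx
  obtain ⟨a, ha⟩ := h₁ _ hx.1
  obtain ⟨b, hb⟩ := h₂ _ hx.2
  refine ⟨a + b, Prod.ext ?_ ?_⟩
  · rw [Prod.pow_fst, pow_add, pow_mul, ha, one_pow, Prod.fst_one]
  · rw [Prod.pow_snd, pow_add, mul_comm, pow_mul, hb, one_pow, Prod.snd_one]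

theorem HomOn.prod {Ω₃ Ω₄ : Type*} [Group Ω₃] [Group Ω₄] {f₁ : Ω₁ → Ω₃} {f₂ : Ω₂ → Ω₄}
    (h₁ : HomOn P₁ f₁) (h₂ : HomOn P₂ f₂) :
    HomOn (P₁.prod P₂) (fun x => (f₁ x.1, f₂ x.2)) := fun x hx y hy =>
  Prod.ext (h₁ _ hx.1 _ hy.1) (h₂ _ hx.2 _ hy.2)

theorem pr1_im (hf : HomOn P f) (e : ∀ x ∈ P, (f x).1 = f₁ x.1) :
    pr1 (im f P) = im f₁ (pr1 P) := by
  rw [pr1, pr1, ← im_hom, ← im_hom, ← hf.im_comp, ← (homOn_hom P _).im_comp]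
  exact im_congr e

theorem pr2_im (hf : HomOn P f) (e : ∀ x ∈ P, (f x).2 = f₂ x.2) :
    pr2 (im f P) = im f₂ (pr2 P) := by
  rw [pr2, pr2, ← im_hom, ← im_hom, ← hf.im_comp, ← (homOn_hom P _).im_comp]
  exact im_congr e

theorem im_prod {Ω₃ Ω₄ : Type*} [Group Ω₃] [Group Ω₄] {f₁ : Ω₁ → Ω₃} {f₂ : Ω₂ → Ω₄}
    (h₁ : HomOn P₁ f₁) (h₂ : HomOn P₂ f₂) :
    im (fun x : Ω₁ × Ω₂ => (f₁ x.1, f₂ x.2)) (P₁.prod P₂) = (im f₁ P₁).prod (im f₂ P₂) := by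
  refine le_antisymm (im_le_iff.2 fun x hx => ⟨mem_im_of_mem _ hx.1, mem_im_of_mem _ hx.2⟩) ?_
  rintro ⟨a, b⟩ ⟨ha, hb⟩
  obtain ⟨x, hx, rfl⟩ := h₁.mem_im.1 ha
  obtain ⟨y, hy, rfl⟩ := h₂.mem_im.1 hb
  exact mem_im_of_mem (fun x : Ω₁ × Ω₂ => (f₁ x.1, f₂ x.2)) (x := (x, y)) ⟨hx, hy⟩

/-- The maps of the product system. -/
def PMor (F₁ : FusionSystem S₁) (F₂ : FusionSystem S₂) (P : Subgroup (Ω₁ × Ω₂))
    (f : Ω₁ × Ω₂ → Ω₁ × Ω₂) : Prop :=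
  ∃ f₁ f₂, Mor F₁ (pr1 P) f₁ ∧ Mor F₂ (pr2 P) f₂ ∧ ∀ x ∈ P, f x = (f₁ x.1, f₂ x.2)

theorem PMor.homOn (h : PMor F₁ F₂ P f) : HomOn P f := by
  obtain ⟨f₁, f₂, h₁, h₂, e⟩ := h
  exact ((h₁.homOn.prod h₂.homOn).mono (le_prod_pr P)).congr e

theorem isFusionPred_pMor (F₁ : FusionSystem S₁) (F₂ : FusionSystem S₂) :
    IsFusionPred (S₁.prod S₂) (PMor F₁ F₂) where
  congr := fun ⟨f₁, f₂, h₁, h₂, e⟩ e' => ⟨f₁, f₂, h₁, h₂, fun x hx => (e' x hx).trans (e x hx)⟩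
  le := fun ⟨_, _, h₁, h₂, _⟩ _ hx => ⟨h₁.le (mem_pr1 hx), h₂.le (mem_pr2 hx)⟩
  mem := fun ⟨_, _, h₁, h₂, e⟩ x hx => e x hx ▸ ⟨h₁.mem (mem_pr1 hx), h₂.mem (mem_pr2 hx)⟩
  hom := PMor.homOn
  inj := fun ⟨_, _, h₁, h₂, e⟩ x hx y hy h => by
    rw [e x hx, e y hy, Prod.mk.injEq] at h
    exact Prod.ext (h₁.injOn (mem_pr1 hx) (mem_pr1 hy) h.1) (h₂.injOn (mem_pr2 hx) (mem_pr2 hy) h.2)
  conj := fun {P s} hP hs => ⟨_, _, mor_conj F₁ (pr1_le hP) hs.1, mor_conj F₂ (pr2_le hP) hs.2,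
    fun _ _ => rfl⟩
  comp := fun {P Q f g} ⟨f₁, f₂, h₁, h₂, e⟩ ⟨g₁, g₂, k₁, k₂, e'⟩ hm =>
    ⟨_, _, h₁.comp k₁ (by
      rintro _ ⟨x, hx, rfl⟩
      have := mem_pr1 (hm x hx)
      rwa [e x hx] at this), h₂.comp k₂ (by
      rintro _ ⟨x, hx, rfl⟩
      have := mem_pr2 (hm x hx)
      rwa [e x hx] at this), fun x hx => by
      beta_reduce
      rw [e' _ (hm x hx), e x hx]⟩
  inv := fun {P f} h => by
    have hf := h.homOn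
    obtain ⟨f₁, f₂, h₁, h₂, e⟩ := h
    obtain ⟨g₁, k₁, e₁, -⟩ := h₁.inv
    obtain ⟨g₂, k₂, e₂, -⟩ := h₂.inv
    refine ⟨fun x => (g₁ x.1, g₂ x.2), ⟨g₁, g₂, ?_, ?_, fun _ _ => rfl⟩, fun x hx => ?_⟩
    · rwa [pr1_im hf fun x hx => by rw [e x hx]]
    · rwa [pr2_im hf fun x hx => by rw [e x hx]]
    · rw [e x hx]
      exact Prod.ext (e₁ _ (mem_pr1 hx)) (e₂ _ (mem_pr2 hx))

/-- `E` is the direct product of `F₁` and `F₂`. -/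
structure Prd (F₁ : FusionSystem S₁) (F₂ : FusionSystem S₂) (E : FusionSystem T) : Prop where
  eq : T = S₁.prod S₂
  mor : ∀ P f, Mor E P f ↔ PMor F₁ F₂ P f

theorem exists_prd (F₁ : FusionSystem S₁) (F₂ : FusionSystem S₂) :
    ∃ E : FusionSystem (S₁.prod S₂), Prd F₁ F₂ E :=
  let ⟨E, h⟩ := (isFusionPred_pMor F₁ F₂).exists
  ⟨E, rfl, h⟩

theorem isProductSystem_iff {E : FusionSystem (S₁.prod S₂)} :
    IsProductSystem F₁ F₂ E ↔ Prd F₁ F₂ E := by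
  have key : ∀ (P : Subgroup (Ω₁ × Ω₂)) (φ : P →* Ω₁ × Ω₂), (P ≤ S₁.prod S₂ ∧
      ∃ φ₁ ∈ F₁.Hom (pr1 P), ∃ φ₂ ∈ F₂.Hom (pr2 P), ∀ (x : P) (h₁ : (x : Ω₁ × Ω₂).1 ∈ pr1 P)
        (h₂ : (x : Ω₁ × Ω₂).2 ∈ pr2 P), φ x = (φ₁ ⟨_, h₁⟩, φ₂ ⟨_, h₂⟩)) ↔
      PMor F₁ F₂ P (fn φ) := fun P φ => by
    refine ⟨fun ⟨_, φ₁, h₁, φ₂, h₂, e⟩ => ⟨_, _, mor_fn h₁, mor_fn h₂, fun x hx => ?_⟩, fun h => ?_⟩
    · rw [fn_apply _ hx, e ⟨x, hx⟩ (mem_pr1 hx) (mem_pr2 hx), fn_apply _ (mem_pr1 hx),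
        fn_apply _ (mem_pr2 hx)]
    · refine ⟨(isFusionPred_pMor F₁ F₂).le h, ?_⟩
      obtain ⟨f₁, f₂, h₁, h₂, e⟩ := h
      exact ⟨_, h₁.toHom_mem, _, h₂.toHom_mem, fun x _ _ => by rw [← fn_coe, e x x.2]; rfl⟩
  refine ⟨fun h => ⟨rfl, fun P f => ⟨fun hf => ?_, fun hf => ?_⟩⟩, fun h P φ => ?_⟩
  · exact (isFusionPred_pMor F₁ F₂).congr ((key _ _).1 ((h _ _).1 hf.toHom_mem))
      fun x hx => by rw [fn_apply _ hx]; rfl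
  · exact ⟨hf.homOn.toHom, (h _ _).2 ((key _ _).2 ((isFusionPred_pMor F₁ F₂).congr hf
      fun x hx => by rw [fn_apply _ hx]; rfl)), fun _ => rfl⟩
  · rw [← mor_fn_iff, h.mor, ← key]

namespace Prd

theorem mor_of (h : Prd F₁ F₂ E) (h₁ : Mor F₁ P₁ f₁) (h₂ : Mor F₂ P₂ f₂) (hP : P ≤ P₁.prod P₂) :
    Mor E P (fun x => (f₁ x.1, f₂ x.2)) :=
  (h.mor _ _).2 ⟨_, _, h₁.mono (pr1_le hP), h₂.mono (pr2_le hP), fun _ _ => rfl⟩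

theorem exists_ext (h : Prd F₁ F₂ E) (hf : Mor E P f) :
    ∃ f₁ f₂, Mor F₁ (pr1 P) f₁ ∧ Mor F₂ (pr2 P) f₂ ∧ ∀ x ∈ P, f x = (f₁ x.1, f₂ x.2) :=
  (h.mor _ _).1 hf

theorem mem_iff (h : Prd F₁ F₂ E) {x : Ω₁ × Ω₂} : x ∈ T ↔ x.1 ∈ S₁ ∧ x.2 ∈ S₂ := by
  rw [h.eq]; rfl

theorem receptive (h : Prd F₁ F₂ E) (hP : P ≤ T) (h₁ : F₁.IsReceptive (pr1 P))
    (h₂ : F₂.IsReceptive (pr2 P)) : E.IsReceptive P := by
  refine receptive_iff.2 ⟨hP, fun R f hf e => ?_⟩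
  obtain ⟨f₁, f₂, k₁, k₂, e'⟩ := h.exists_ext hf
  have e₁ : im f₁ (pr1 R) = pr1 P := by rw [← pr1_im hf.homOn fun x hx => by rw [e' x hx], e]
  have e₂ : im f₂ (pr2 R) = pr2 P := by rw [← pr2_im hf.homOn fun x hx => by rw [e' x hx], e]
  obtain ⟨g₁, l₁, a₁⟩ := k₁.extend' (e₁ ▸ h₁)
  obtain ⟨g₂, l₂, a₂⟩ := k₂.extend' (e₂ ▸ h₂)
  refine ⟨_, h.mor_of l₁ l₂ ?_, fun x hx => by
    rw [e' x hx, a₁ _ (mem_pr1 hx), a₂ _ (mem_pr2 hx)]⟩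
  rintro s ⟨hs, hn, t, ht, H⟩
  refine ⟨⟨(h.mem_iff.1 hs).1, le_normalizer_map _ (mem_map_of_mem _ hn), t.1,
    (h.mem_iff.1 ht).1, ?_⟩, ⟨(h.mem_iff.1 hs).2, le_normalizer_map _ (mem_map_of_mem _ hn), t.2,
    (h.mem_iff.1 ht).2, ?_⟩⟩
  all_goals
    rintro _ ⟨x, hx, rfl⟩
    have := H x hx
    rw [e' x hx, e' _ (conj_mem_of_mem_normalizer hn hx)] at this
  · exact congrArg Prod.fst this
  · exact congrArg Prod.snd this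

theorem exists_autMap (P₁ : Subgroup Ω₁) (P₂ : Subgroup Ω₂) :
    ∃ r : MulAut P₁ × MulAut P₂ → MulAut (P₁.prod P₂), HomOn ⊤ r ∧
      ∀ a, ∀ x ∈ P₁.prod P₂, ext (r a) x = (ext a.1 x.1, ext a.2 x.2) := by
  have : ∀ a : MulAut P₁ × MulAut P₂, ∃ b : MulAut (P₁.prod P₂),
      ∀ x ∈ P₁.prod P₂, ext b x = (ext a.1 x.1, ext a.2 x.2) := fun a =>
    ((homOn_ext a.1).prod (homOn_ext a.2)).exists_aut (fun x _ y _ e => by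
      simp only [Prod.mk.injEq] at e
      exact Prod.ext (ext_injective _ e.1) (ext_injective _ e.2)) (by
      rw [im_prod (homOn_ext _) (homOn_ext _), im_ext, im_ext])
  choose r hr using this
  exact ⟨r, fun a _ b _ => eq_of_ext fun x hx => by
    rw [ext_mul, hr _ x hx, hr _ _ (ext_mem _ hx), hr _ x hx, Prod.fst_mul, Prod.snd_mul, ext_mul,
      ext_mul], hr⟩

variable [Finite S₁] [Finite S₂] [Fact p.Prime]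

omit [Fact p.Prime] in
theorem finite (h : Prd F₁ F₂ E) : Finite T := h.eq ▸ inferInstance

omit [Finite S₁] [Finite S₂] in
theorem fullyAutomized_prod [Finite T] (h : Prd F₁ F₂ E) (hT : IsPGroup p T) (hP₁ : P₁ ≤ S₁)
    (hP₂ : P₂ ≤ S₂) (h₁ : ¬ p ∣ (autInducedBy S₁ P₁).relIndex (F₁.autGroup P₁))
    (h₂ : ¬ p ∣ (autInducedBy S₂ P₂).relIndex (F₂.autGroup P₂)) :
    E.IsFullyAutomized p (P₁.prod P₂) := by
  have hP : P₁.prod P₂ ≤ T := fun x hx => h.mem_iff.2 ⟨hP₁ hx.1, hP₂ hx.2⟩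
  refine (fullyAutomized_iff hT).2 ⟨hP, ?_⟩
  obtain ⟨r, hr, e⟩ := exists_autMap P₁ P₂
  have e1 : im r ((F₁.autGroup P₁).prod (F₂.autGroup P₂)) = E.autGroup (P₁.prod P₂) := by
    refine le_antisymm (im_le_iff.2 fun a ha => (h.mor_of (mor_ext hP₁ ha.1) (mor_ext hP₂ ha.2)
      le_rfl).mem_autGroup_of_eq (e a)) fun β hβ => ?_
    obtain ⟨f₁, f₂, k₁, k₂, e'⟩ := h.exists_ext (mor_ext hP hβ)
    have e₁ := pr1_im (f₁ := f₁) (homOn_ext β) fun x hx => by rw [e' x hx]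
    have e₂ := pr2_im (f₂ := f₂) (homOn_ext β) fun x hx => by rw [e' x hx]
    rw [im_ext] at e₁ e₂
    rw [pr1_prod] at k₁ e₁
    rw [pr2_prod] at k₂ e₂
    obtain ⟨a₁, b₁, c₁⟩ := k₁.exists_aut e₁.symm
    obtain ⟨a₂, b₂, c₂⟩ := k₂.exists_aut e₂.symm
    rw [show β = r (a₁, a₂) from eq_of_ext fun x hx => by
      rw [e _ x hx, e' x hx, c₁ _ hx.1, c₂ _ hx.2]]
    exact mem_im_of_mem r ⟨b₁, b₂⟩
  rw [← e1]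
  refine not_dvd_relIndex_im (B := (autInducedBy S₁ P₁).prod (autInducedBy S₂ P₂))
    (hr.mono le_top) ?_ fun b hb _ => ?_
  · rw [relIndex, show ((autInducedBy S₁ P₁).prod (autInducedBy S₂ P₂)).subgroupOf
      ((F₁.autGroup P₁).prod (F₂.autGroup P₂)) = (((autInducedBy S₁ P₁).subgroupOf
        (F₁.autGroup P₁)).prod ((autInducedBy S₂ P₂).subgroupOf (F₂.autGroup P₂))).comap
        (prodEquiv _ _).toMonoidHom from rfl, index_comap_of_surjective _ (prodEquiv _ _).surjective,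
      index_prod]
    exact fun hd => ((Fact.out : p.Prime).dvd_mul.1 hd).elim h₁ h₂
  · obtain ⟨s, hs, a₁⟩ := mem_autInducedBy.1 hb.1
    obtain ⟨t, ht, a₂⟩ := mem_autInducedBy.1 hb.2
    exact mem_autInducedBy.2 ⟨(s, t), h.mem_iff.2 ⟨hs, ht⟩, fun x hx => by
      rw [e _ x hx, a₁ _ hx.1, a₂ _ hx.2]; rfl⟩

/-- A direct product of saturated systems is saturated. -/
theorem sat (h : Prd F₁ F₂ E) (h₁ : Sat F₁ p) (h₂ : Sat F₂ p) : Sat E p := by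
  have := h.finite
  have hT : IsPGroup p T := h.eq ▸ isPGroup_prod h₁.pg h₂.pg
  refine ⟨hT, fun P hP => ?_⟩
  obtain ⟨f₁, k₁, n₁⟩ := h₁.exists_fn (pr1_le (h.eq ▸ hP))
  obtain ⟨f₂, k₂, n₂⟩ := h₂.exists_fn (pr2_le (h.eq ▸ hP))
  have hf := h.mor_of (k₁.mono (le_normalizerIn (pr1_le (h.eq ▸ hP))))
    (k₂.mono (le_normalizerIn (pr2_le (h.eq ▸ hP)))) (le_prod_pr P)
  rw [← pr1_im hf.homOn fun _ _ => rfl] at n₁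
  rw [← pr2_im hf.homOn fun _ _ => rfl] at n₂
  refine SatAt.of_isConj ?_ (isConj_symm hf.isConj)
  have hP' := hf.im_le
  generalize im (fun x : Ω₁ × Ω₂ => (f₁ x.1, f₂ x.2)) P = P' at n₁ n₂ hP' ⊢
  have hQ := h.fullyAutomized_prod hT n₁.1 n₂.1 (h₁.not_dvd n₁) (h₂.not_dvd n₂)
  have := finite_of_le hQ.1
  obtain ⟨α, hα, H⟩ := exists_aut_stab ((fullyAutomized_iff hT).1 hQ).2 (le_prod_pr P')
  have hα' := mor_ext hQ.1 hα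
  obtain ⟨g₁, g₂, l₁, l₂, e⟩ := h.exists_ext hα'
  have e₁ := pr1_im (f₁ := g₁) (homOn_ext α) fun x hx => by rw [e x hx]
  have e₂ := pr2_im (f₂ := g₂) (homOn_ext α) fun x hx => by rw [e x hx]
  rw [im_ext, pr1_prod] at e₁
  rw [im_ext, pr2_prod] at e₂
  have hα'' := hα'.mono (le_prod_pr P')
  have e₃ := (pr1_im (f₁ := g₁) hα''.homOn fun x hx => by rw [e x (le_prod_pr _ hx)]).trans e₁.symm
  have e₄ := (pr2_im (f₂ := g₂) hα''.homOn fun x hx => by rw [e x (le_prod_pr _ hx)]).trans e₂.symm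
  refine ⟨_, hα''.isConj, fa_of_ext hT hQ.1 (im_ext_le α (le_prod_pr P')) H fun β hβ => ?_,
    h.receptive hα''.im_le (by rw [e₃]; exact h₁.rec' n₁) (by rw [e₄]; exact h₂.rec' n₂)⟩
  obtain ⟨u₁, u₂, m₁, m₂, e'⟩ := h.exists_ext (mor_ext hα''.im_le hβ)
  have a₁ := pr1_im (f₁ := u₁) (homOn_ext β) fun x hx => by rw [e' x hx]
  have a₂ := pr2_im (f₂ := u₂) (homOn_ext β) fun x hx => by rw [e' x hx]
  rw [im_ext] at a₁ a₂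
  rw [e₃] at m₁ a₁
  rw [e₄] at m₂ a₂
  obtain ⟨γ, hγ, c⟩ := (h.mor_of m₁ m₂ le_rfl).exists_aut (by
    rw [im_prod m₁.homOn m₂.homOn, ← a₁, ← a₂])
  exact ⟨γ, hγ, fun x hx => by rw [c x (im_ext_le α (le_prod_pr P') hx), e' x hx]⟩

end Prd

end Cfsg.Lib.Fusion
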