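import Cfsg.Agent.Lib.Fusion.Model

/-!
Realizing an arbitrary fusion system by a group of paths in a finite graph with a group action.
-/

set_option autoImplicit false
set_option linter.unusedSectionVars false

namespace Cfsg.Lib.Fusion
open Subgroup Cfsg.Lib.Transfer SemidirectProduct
open Cfsg.FusionSystem hiding inv_mem

universe u

variable {Ω : Type u} [Group Ω] {S : Subgroup Ω} (F : FusionSystem S)

theorem exists_perm_conj [Finite S] {P : Subgroup Ω} {f : Ω → Ω} (h : Mor F P f) :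
    ∃ k : Equiv.Perm S, ∀ x ∈ P, fn (MulAction.toPermHom S S) (f x) =
      k⁻¹ * fn (MulAction.toPermHom S S) x * k := by
  obtain ⟨e, he⟩ := h.homOn.exists_equiv h.injOn rfl
  let e' := ((subgroupOfEquivOfLe h.le).trans e).trans (subgroupOfEquivOfLe h.im_le).symm
  obtain ⟨T, hT, -⟩ := (P.subgroupOf S).exists_isComplement_right 1
  obtain ⟨T', hT', -⟩ := ((im f P).subgroupOf S).exists_isComplement_right 1
  obtain ⟨t⟩ : Nonempty (T ≃ T') := Finite.card_eq.1 (by
    rw [hT.card_right, hT'.card_right]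
    refine Nat.eq_of_mul_eq_mul_left (Nat.card_pos (α := P.subgroupOf S)) ?_
    rw [card_mul_index, Nat.card_congr e'.toEquiv, card_mul_index])
  refine ⟨(hT.equiv.trans ((e'.toEquiv.prodCongr t).trans hT'.equiv.symm)).symm, fun x hx => ?_⟩
  rw [fn_apply _ (h.mem hx), fn_apply _ (h.le hx), mul_assoc, eq_inv_mul_iff_mul_eq]
  ext1 y
  obtain ⟨⟨a, b⟩, rfl⟩ := ((e'.toEquiv.prodCongr t).trans hT'.equiv.symm).surjective y
  have h2 : (⟨f x, h.mem hx⟩ : S) = e' ⟨⟨x, h.le hx⟩, hx⟩ := Subtype.ext (he ⟨x, hx⟩).symm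
  simp [h2, Equiv.symm_apply_eq, hT.equiv_mul_left_of_mem (h := ⟨x, h.le hx⟩) hx,
    hT'.equiv_mul_left]

section Graph
variable {K : Type u} [Group K] (j : S →* K)

/-- types of edges -/
abbrev EdI := {i : Subgroup K × K // ∃ P g, Mor F P g ∧
  ∀ r ∈ i.1, ∃ z ∈ P, fn j z = r ∧ fn j (g z) = i.2⁻¹ * r * i.2}

/-- the edges -/
abbrev Ed := Σ i : EdI F j, K ⧸ i.1.1

theorem fn_mem_range (x : Ω) : fn j x ∈ j.range := by
  unfold fn; split_ifs <;> simp [one_mem]

variable {F j}

/-- the two ends of an edge -/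
def nd (b : Bool) (e : Ed F j) : K ⧸ j.range :=
  Quotient.map' (· * (bif b then e.1.1.2 else 1)) (fun x y h => by
    rw [QuotientGroup.leftRel_apply] at h ⊢
    obtain ⟨P, g, -, h1⟩ := e.1.2
    obtain ⟨z, -, h2, h3⟩ := h1 _ h
    cases b
    · simpa [h2] using fn_mem_range j z
    · simpa [h3, mul_assoc] using fn_mem_range j (g z)) e.2

theorem nd_mk (b : Bool) (i : EdI F j) (a : K) :
    nd b (⟨i, a⟩ : Ed F j) = (a * (bif b then i.1.2 else 1) : K) := rfl

theorem nd_smul (b : Bool) (k : K) (e : Ed F j) : nd b (k • e) = k • nd b e := by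
  obtain ⟨i, ⟨a⟩⟩ := e
  exact congrArg QuotientGroup.mk (mul_assoc ..)

variable {N : Type u} [Group N] (φ : K →* MulAut N)

variable (F) in
/-- an abstract notion of paths, represented in the group `N` -/
structure Paths (p : ℕ) (Pth : K ⧸ j.range → N → K ⧸ j.range → Prop) : Prop where
  refl : ∀ a, Pth a 1 a
  trans : ∀ {a w b w' c}, Pth a w b → Pth b w' c → Pth a (w * w') c
  symm : ∀ {a w b}, Pth a w b → Pth b w⁻¹ a
  smul : ∀ {a w b} (k : K), Pth a w b → Pth (k • a) (φ k w) (k • b)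
  edge : ∀ e : Ed F j, ∃ w, Pth (nd false e) w (nd true e) ∧ ∀ k, k • e = e → φ k w = w
  sep : ∀ (R : Subgroup K) (C : K ⧸ j.range → Prop), IsPGroup p R →
    (∀ y, C y → ∀ r ∈ R, r • y = y) →
    (∀ e : Ed F j, (∀ r ∈ R, r • e = e) → (C (nd false e) ↔ C (nd true e))) →
    ∀ {a w b}, Pth a w b → (∀ r ∈ R, φ r w = w) → C a → C b

variable {φ} {p : ℕ} {Pth : K ⧸ j.range → N → K ⧸ j.range → Prop} (h : Paths F φ p Pth)

/-- the group of paths -/
def Paths.grp : Subgroup (N ⋊[φ] K) where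
  carrier := {g | Pth (1 : K) g.left g.right}
  one_mem' := h.refl _
  mul_mem' := fun {a b} ha hb => h.trans ha (by simpa using h.smul a.right hb)
  inv_mem' := fun {a} ha => by simpa using h.smul a.right⁻¹ (h.symm ha)

/-- the embedding of `S` -/
def Paths.emb : S →* h.grp := (inr.comp j).codRestrict _ fun s => by
  have : ((j s : K) : K ⧸ j.range) = (1 : K) := QuotientGroup.eq.2 (by simp)
  exact show Pth _ 1 (j s : K) from this ▸ h.refl _

theorem Paths.fn_emb (x : Ω) : (fn h.emb x).1 = inr (fn j x) := by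
  unfold fn; split_ifs
  · rfl
  · simp

theorem Paths.isRealizedBy (hS : IsPGroup p S) (hj : Function.Injective j)
    (hk : ∀ P f, Mor F P f → ∃ k, ∀ x ∈ P, fn j (f x) = k⁻¹ * fn j x * k) :
    F.IsRealizedBy h.emb := by
  have hi := injOn_fn hj
  have hm := homOn_fn j
  refine isRealizedBy_iff'.2 ⟨fun x y e => hj (inr_injective (congrArg Subtype.val e)),
    fun Q f hQ hf hf' => ⟨fun hF => ?_, fun ⟨g, hg⟩ => ?_⟩⟩
  · obtain ⟨k, e⟩ := hk Q f hF
    obtain ⟨w, a1, a2⟩ := h.edge ⟨⟨(im (fn j) Q, k), Q, f, hF, fun r hr => by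
      obtain ⟨z, hz, rfl⟩ := (hm.mono hQ).mem_im.1 hr
      exact ⟨z, hz, rfl, e z hz⟩⟩, (1 : K)⟩
    refine ⟨(⟨⟨w, k⟩, show Pth _ w k by
      simpa using show Pth (1 * 1 : K) w (1 * k : K) from a1⟩ : h.grp)⁻¹, fun x hx => Subtype.ext ?_⟩
    have := a2 (fn j x) (congrArg (Sigma.mk _) (QuotientGroup.eq.2 (by
      simpa using mem_im_of_mem _ hx)))
    ext <;> simp [h.fn_emb, e x hx, this]
  · have a1 : ∀ x ∈ Q, fn j (f x) = (g⁻¹).1.right⁻¹ * fn j x * (g⁻¹).1.right ∧
        φ (fn j x) (g⁻¹).1.left = (g⁻¹).1.left := fun x hx => by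
      have := congrArg Subtype.val (show fn h.emb x * g⁻¹ = g⁻¹ * fn h.emb (f x) by
        rw [hg x hx]; group)
      rw [coe_mul, coe_mul, h.fn_emb, h.fn_emb, SemidirectProduct.ext_iff] at this
      simp only [mul_left, mul_right, left_inr, right_inr, one_mul, map_one, mul_one] at this
      exact ⟨by rw [mul_assoc, this.2, inv_mul_cancel_left], this.1⟩
    let C : K → Prop := fun a => ∃ f, Mor F Q f ∧ ∀ x ∈ Q, fn j (f x) = a⁻¹ * fn j x * a
    have hC : ∀ a b : K, (a : K ⧸ j.range) = b → C a → C b := fun a b e ⟨f, b1, b2⟩ => by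
      obtain ⟨s, hs⟩ := QuotientGroup.eq.1 e
      refine ⟨_, b1.comp (mor_conj' F le_rfl s.2) fun x hx => b1.mem hx, fun x hx => ?_⟩
      rw [hm.map_conj' s.2 (b1.mem hx), b2 x hx, fn_coe, hs]; group
    obtain ⟨a, a2, a3⟩ := h.sep (im (fn j) Q) (fun y => ∃ a : K, a = y ∧ C a)
      ((hm.mono hQ).isPGroup_im (hS.to_le hQ)) (by
        rintro _ ⟨a, rfl, f, b1, b2⟩ r hr
        obtain ⟨z, hz, rfl⟩ := (hm.mono hQ).mem_im.1 hr
        refine (QuotientGroup.eq.2 ?_).symm
        simpa [b2 z hz, mul_assoc] using fn_mem_range j (f z)) (by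
        rintro ⟨i, ⟨a⟩⟩ hr
        obtain ⟨P, g, b1, b2⟩ := i.2
        have b3 : ∀ x ∈ Q, ∃ z ∈ P, fn j z = a⁻¹ * fn j x * a ∧
            fn j (g z) = (a * i.1.2)⁻¹ * fn j x * (a * i.1.2) := fun x hx => by
          have := hr _ (mem_im_of_mem _ hx)
          simpa [mul_assoc] using b2 _ (QuotientGroup.eq.1 (eq_of_heq (Sigma.mk.inj this).2).symm)
        refine ⟨fun ⟨c, e, hc⟩ => ⟨_, rfl, ?_⟩, fun ⟨c, e, hc⟩ => ⟨_, rfl, ?_⟩⟩
        · obtain ⟨f, c1, c2⟩ := hC _ _ e hc
          have c3 : ∀ x ∈ Q, f x ∈ P ∧ fn j (g (f x)) = (a * i.1.2)⁻¹ * fn j x * (a * i.1.2) :=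
            fun x hx => by
              obtain ⟨z, d1, d2, d3⟩ := b3 x hx
              rw [hi (c1.mem hx) (b1.le d1) (by simpa [d2] using c2 x hx)]
              exact ⟨d1, d3⟩
          exact ⟨_, c1.comp b1 fun x hx => (c3 x hx).1, fun x hx => (c3 x hx).2⟩
        · obtain ⟨f, c1, c2⟩ := hC _ _ e hc
          obtain ⟨g', c4, c5, -⟩ := b1.inv
          have c3 : ∀ x ∈ Q, f x ∈ im g P ∧ fn j (g' (f x)) = a⁻¹ * fn j x * a :=
            fun x hx => by
              obtain ⟨z, d1, d2, d3⟩ := b3 x hx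
              rw [hi (c1.mem hx) (b1.mem d1) (by simpa [d3] using c2 x hx), c5 z d1]
              exact ⟨mem_im_of_mem _ d1, d2⟩
          exact ⟨_, c1.comp c4 fun x hx => (c3 x hx).1, fun x hx => by simpa using (c3 x hx).2⟩)
      (g⁻¹).2 (fun r hr => by
        obtain ⟨z, hz, rfl⟩ := (hm.mono hQ).mem_im.1 hr
        exact (a1 z hz).2) ⟨1, rfl, _, mor_id F hQ, by simp⟩
    obtain ⟨f', b1, b2⟩ := hC _ _ a2 a3
    exact b1.congr fun x hx => hi (hf' x hx) (b1.mem hx) ((a1 x hx).1.trans (b2 x hx).symm)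

theorem sum_eq_zero_of_inv {R E : Type*} [Group R] [Fact p.Prime] (hR : IsPGroup p R)
    [MulAction R E] [Fintype E] (f : E → ZMod p) (h1 : ∀ (r : R) e, f (r • e) = f e)
    (h2 : ∀ e, (∀ r : R, r • e = e) → f e = 0) : ∑ e, f e = 0 := by
  classical
  refine (Finset.sum_comp id f).trans (Finset.sum_eq_zero fun b _ => ?_)
  by_cases hb : b = 0
  · simp [hb]
  let X : SubMulAction R E := ⟨{e | f e = b}, fun r e he => (h1 r e).trans he⟩
  have := hR.card_modEq_card_fixedPoints X
  have _ : IsEmpty (MulAction.fixedPoints R X) :=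
    ⟨fun x => hb (x.1.2.symm.trans (h2 _ fun r => congrArg Subtype.val (x.2 r)))⟩
  rw [Nat.card_of_isEmpty (α := MulAction.fixedPoints R X), ← ZMod.natCast_eq_natCast_iff,
    show Nat.card X = _ from Nat.subtype_card (Finset.univ.filter (f · = b)) 
      fun _ => by simp; rfl] at this
  simp [this]

theorem arrow_apply {E M : Type*} [MulAction K E] [Monoid M] (k : K) (w : E → M) (e : E) :
    mulAutArrow k w e = w (k⁻¹ • e) := rfl

variable (F j) in
theorem paths_fin [Finite K] [Fact p.Prime] [Fintype (Ed F j)] :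
    Paths F (mulAutArrow (G := K) (A := Ed F j) (M := Multiplicative (ZMod p))) p
      fun a w b => ∀ χ : K ⧸ j.range → ZMod p,
        ∑ e, (w e).toAdd * (χ (nd true e) - χ (nd false e)) = χ b - χ a where
  refl a χ := by simp
  trans h h' χ := by simp [add_mul, Finset.sum_add_distrib, h χ, h' χ]
  symm h χ := by simp [h χ]
  smul k h χ := by
    rw [← h fun y => χ (k • y)]
    refine (Fintype.sum_equiv (MulAction.toPerm k) _ _ fun e => ?_).symm
    rw [arrow_apply]; simp [nd_smul]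
  edge e := by
    classical
    refine ⟨fun e' => .ofAdd (if e' = e then 1 else 0), fun χ => by simp, fun k hk => ?_⟩
    ext e'
    rw [arrow_apply]; simp [inv_smul_eq_iff, hk]
  sep R C hR h1 h2 a w b h3 h4 h5 := by
    classical
    have h6 : ∀ (r : R) y, C (r.1 • y) ↔ C y := fun r y =>
      ⟨fun h => by rwa [← h1 _ h _ (inv_mem r.2), inv_smul_smul] at h,
        fun h => by rwa [h1 _ h _ r.2]⟩
    have := h3 fun y => if C y then 1 else 0
    rw [sum_eq_zero_of_inv hR] at this
    · by_contra H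
      simp [H, h5] at this
    · intro r e
      have : w (r.1 • e) = w e := by
        rw [← congrFun (h4 _ r.2) (r.1 • e), arrow_apply, inv_smul_smul]
      simp [Subgroup.smul_def, nd_smul, h6 r, this]
    · exact fun e he => by simp [h2 e fun r hr => he ⟨r, hr⟩]

section Free
open FreeGroup hiding map_mul map_inv map_one

variable (E : Type u) [MulAction K E]

/-- the action on the free group -/
def freeAut : K →* MulAut (FreeGroup E) :=
  MonoidHom.mk' (fun k => freeGroupCongr (MulAction.toPerm k)) fun a b => by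
    ext x
    simp [FreeGroup.map.comp, Function.comp_def, ← mul_smul]
    rfl

variable {E}

theorem freeAut_mk (k : K) (l : List (E × Bool)) :
    freeAut E k (mk l) = mk (l.map fun x => (k • x.1, x.2)) := rfl

variable [DecidableEq E]

theorem toWord_freeAut (k : K) (w : FreeGroup E) :
    (freeAut E k w).toWord = w.toWord.map fun x => (k • x.1, x.2) := by
  conv_lhs => rw [← mk_toWord (x := w), freeAut_mk, toWord_mk]
  exact IsReduced.reduce_eq ((List.isChain_map _).2 (isReduced_toWord.imp fun a b h => by simpa))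

theorem norm_freeAut (k : K) (w : FreeGroup E) : (freeAut E k w).norm = w.norm := by
  simp [FreeGroup.norm, toWord_freeAut]

theorem norm_inv_mul {α : Type*} [DecidableEq α] {a b : FreeGroup α} {x y : α × Bool}
    {l m : List (α × Bool)} (ha : a.toWord = x :: l) (hb : b.toWord = y :: m) (h : x ≠ y) :
    (a⁻¹ * b).norm = a.norm + b.norm := by
  have h1 := isReduced_toWord (x := a⁻¹)
  have h2 := isReduced_toWord (x := b)
  rw [FreeGroup.norm, toWord_mul, IsReduced.reduce_eq, List.length_append]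
  · exact congrArg (· + _) norm_inv_eq
  · rw [toWord_inv, ha] at h1 ⊢
    rw [hb] at h2 ⊢
    refine List.IsChain.append h1 h2 ?_
    obtain ⟨x, b⟩ := x
    obtain ⟨y, c⟩ := y
    simp only [invRev, List.map_cons, List.reverse_cons, List.getLast?_concat, List.head?_cons,
      Option.mem_def, Option.some.injEq]
    rintro _ rfl _ rfl rfl
    cases b <;> cases c <;> simp_all

/-- a finite group acting on the tree of words fixes a vertex -/
theorem exists_fixed {G : Subgroup (FreeGroup E ⋊[freeAut E] K)}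
    (hG : ∀ g ∈ G, ∀ x l, g.left.toWord = x :: l → ∃ a, ⟨mk [x], a⟩ ∈ G) (H : Subgroup G)
    [Finite H] : ∃ g : G, ∀ h ∈ H, (g * h * g⁻¹).1.left = 1 := by
  have := Fintype.ofFinite H
  obtain ⟨g, hg⟩ : ∃ g : G, ∀ g' : G, ¬ ∑ h : H, (g' * h * g'⁻¹).1.left.norm <
      ∑ h : H, (g * h * g⁻¹).1.left.norm :=
    ⟨_, Function.not_lt_argmin fun g : G => ∑ h : H, (g * h * g⁻¹).1.left.norm⟩
  refine ⟨g, fun h₁ hh => by_contra fun H1 => ?_⟩
  let c : H →* FreeGroup E ⋊[freeAut E] K :=
    G.subtype.comp ((MulAut.conj g).toMonoidHom.comp H.subtype)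
  obtain ⟨h₀, hm⟩ := Finite.exists_max fun h : H => (c h).left.norm
  obtain ⟨x, l, e⟩ := List.exists_cons_of_ne_nil (l := (c h₀).left.toWord) fun e => H1 (by
    have := hm ⟨h₁, hh⟩
    rwa [toWord_eq_nil_iff.1 e, FreeGroup.norm_one, Nat.le_zero, FreeGroup.norm_eq_zero] at this)
  have A : ∀ h, (c h).left ≠ 1 → ∃ m, (c h).left.toWord = x :: m := fun h h1 => by
    obtain ⟨y, m, e'⟩ := List.exists_cons_of_ne_nil (toWord_eq_nil_iff.not.2 h1)
    obtain rfl : y = x := by_contra fun h2 => h1 (by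
      have := hm (h⁻¹ * h₀)
      rw [map_mul, map_inv, mul_left, inv_left, inv_right, ← map_mul, norm_freeAut,
        norm_inv_mul e' e h2] at this
      exact FreeGroup.norm_eq_zero.1 (by omega))
    exact ⟨m, e'⟩
  have h0 : (c h₀).left ≠ 1 := fun h => by simp [h] at e
  obtain ⟨a, ha⟩ := hG _ (g * h₀ * g⁻¹).2 x l e
  have B : ∀ h : H, ((⟨_, ha⟩ : G)⁻¹ * g * h * ((⟨_, ha⟩ : G)⁻¹ * g)⁻¹).1.left.norm =
      ((mk [x])⁻¹ * (c h).left * mk [((c h).right • x.1, x.2)]).norm := fun h => by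
    rw [← norm_freeAut a, show (⟨_, ha⟩ : G)⁻¹ * g * h * ((⟨_, ha⟩ : G)⁻¹ * g)⁻¹ =
      (⟨_, ha⟩ : G)⁻¹ * (g * h * g⁻¹) * ⟨_, ha⟩ by group]
    change (freeAut E a (_⁻¹ * c h * _).left).norm = _
    simp [mul_assoc, freeAut_mk]
  have C : ∀ h, (c h).left ≠ 1 →
      ((mk [x])⁻¹ * (c h).left * mk [((c h).right • x.1, x.2)]).norm < (c h).left.norm := by
    intro h h1
    obtain ⟨m, e1⟩ := A h h1
    obtain ⟨m', e2⟩ := A h⁻¹ (by simpa using h1)
    have e3 := toWord_freeAut (c h).right (c h⁻¹).left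
    rw [e2, map_inv, inv_left, ← MulAut.mul_apply, ← map_mul, mul_inv_cancel, map_one,
      MulAut.one_apply, toWord_inv, e1, invRev_cons, List.map_cons] at e3
    rcases e4 : invRev m with _ | ⟨y, n⟩ <;> rw [e4] at e3
    · simp [invRev, Prod.ext_iff] at e3
    obtain rfl : y = _ := (List.cons.inj e3).1
    have e5 : m.length = n.length + 1 := by rw [← invRev_length, e4]; rfl
    have e6 : mk m = (mk n)⁻¹ * (mk [((c h).right • x.1, x.2)])⁻¹ := by
      rw [← mul_inv_rev, mul_mk, List.singleton_append, ← e4, inv_mk, invRev_invRev]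
    rw [FreeGroup.norm.eq_1 (c h).left, e1, ← mk_toWord (x := (c h).left), e1,
      show mk (x :: m) = mk [x] * mk m from rfl, e6, inv_mul_cancel_left, inv_mul_cancel_right,
      norm_inv_eq, List.length_cons]
    exact norm_mk_le.trans_lt (by omega)
  refine hg ((⟨_, ha⟩ : G)⁻¹ * g) (Finset.sum_lt_sum (fun h _ => ?_)
    ⟨h₀, Finset.mem_univ _, (B _).trans_lt (C _ h0)⟩)
  by_cases h1 : (c h).left = 1
  · obtain ⟨m, e1⟩ := A (h * h₀) (by simpa [h1] using h0)
    rw [map_mul, mul_left, h1, one_mul, toWord_freeAut, e] at e1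
    rw [B, h1, show (_, x.2) = x from (List.cons.inj e1).1, mul_one, inv_mul_cancel,
      FreeGroup.norm_one]
    exact Nat.zero_le _
  · exact ((B h).trans_lt (C h h1)).le

/-- lists of letters that are paths -/
def LP : K ⧸ j.range → List (Ed F j × Bool) → K ⧸ j.range → Prop
  | a, [], b => a = b
  | a, x :: l, b => a = nd (!x.2) x.1 ∧ LP (nd x.2 x.1) l b

theorem LP.append {l m : List (Ed F j × Bool)} {a c : K ⧸ j.range} :
    LP a (l ++ m) c ↔ ∃ b, LP a l b ∧ LP b m c := by
  induction l generalizing a <;> simp [LP, and_assoc, *]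

theorem LP.red {l m : List (Ed F j × Bool)} {a c : K ⧸ j.range} (h : Red l m) (h' : LP a l c) :
    LP a m c := by
  induction h with
  | refl => exact h'
  | tail _ h ih =>
    cases h
    obtain ⟨b, h1, rfl, -, h2⟩ := LP.append.1 ih
    exact LP.append.2 ⟨_, h1, by simpa using h2⟩

variable (F j) in
theorem paths_free [DecidableEq (Ed F j)] :
    Paths F (freeAut (Ed F j)) p fun a w b => LP a w.toWord b where
  refl a := rfl
  trans h h' := by rw [toWord_mul]; exact LP.red reduce.red (LP.append.2 ⟨_, h, h'⟩)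
  symm {a w b} h := by
    rw [toWord_inv]
    generalize w.toWord = l at h
    induction' l with x l ih generalizing a
    · exact h.symm
    · rw [invRev_cons]; exact LP.append.2 ⟨_, ih h.2, by simp [invRev, LP, h.1]⟩
  smul {a w b} k h := by
    rw [toWord_freeAut]
    generalize w.toWord = l at h
    induction' l with x l ih generalizing a
    · exact congrArg _ h
    · exact ⟨by rw [nd_smul, h.1], by rw [nd_smul]; exact ih h.2⟩
  edge e := ⟨of e, ⟨rfl, rfl⟩, fun k hk => congrArg of hk⟩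
  sep R C _ _ h2 a w b h3 h4 h5 := by
    have : ∀ x ∈ w.toWord, ∀ r ∈ R, r • x.1 = x.1 := fun x hx r hr => by
      have := toWord_freeAut r w
      rw [h4 r hr] at this
      exact (congrArg Prod.fst (List.map_inj_left.1 ((List.map_id _).trans this) x hx)).symm
    generalize w.toWord = l at h3 this
    clear h4
    induction' l with x l ih generalizing a
    · exact h3 ▸ h5
    · refine ih _ ?_ h3.2 fun y hy => this y (.tail _ hy)
      have h6 := h2 _ (this x (.head _))
      rw [h3.1] at h5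
      cases hx : x.2 <;> simp_all

end Free
end Graph
end Cfsg.Lib.Fusion
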