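import Cfsg.Agent.Lib.Fusion.Glaub
import Cfsg.Agent.Lib.Transfer.SmallOrder

/-!
Control of fusion by elements of order `p` or `4` and by abelian subgroups of small exponent.
-/

set_option autoImplicit false

namespace Cfsg.Lib.Fusion

open Subgroup Cfsg.Lib.Transfer
open Cfsg.FusionSystem hiding inv_mem
open scoped commutatorElement

variable {p : ℕ} {Ω : Type*} [Group Ω] {S : Subgroup Ω} {F E : FusionSystem S}
  {P Q U A : Subgroup Ω} {f : Ω → Ω}

/-- `x` has order dividing `p`, or dividing `4` when `p = 2`. -/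
def SmallElt (p : ℕ) (x : Ω) : Prop := x ^ p = 1 ∨ (p = 2 ∧ x ^ 4 = 1)

theorem HomOn.smallElt {Ω' : Type*} [Group Ω'] {f : Ω → Ω'} (hf : HomOn P f) {x : Ω} 
    (hx : x ∈ P) (h : SmallElt p x) : SmallElt p (f x) := by
  simp only [SmallElt, ← hf.map_pow hx]
  exact h.imp (fun e => by rw [e, hf.map_one]) fun e => ⟨e.1, by rw [e.2, hf.map_one]⟩

theorem SmallElt.card_zpowers [Fact p.Prime] {x : Ω} (h : SmallElt p x) (h1 : x ≠ 1) :
    Nat.card (zpowers x) = p ∨ Nat.card (zpowers x) = 4 := by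
  rw [Nat.card_zpowers]
  by_cases h2 : x ^ p = 1
  · exact Or.inl (orderOf_eq_prime h2 h1)
  obtain ⟨rfl, h3⟩ := h.resolve_left h2
  exact Or.inr (orderOf_eq_prime_pow (p := 2) (n := 1) (by rwa [pow_one]) h3)

/-- The `p'`-automorphisms of `P` in the system act faithfully on `A`. -/
def Faith (F : FusionSystem S) (p : ℕ) (P A : Subgroup Ω) : Prop :=
  ∀ α ∈ F.autGroup P, (orderOf α).Coprime p → (∀ x ∈ A, ext α x = x) → α = 1

theorem Faith.im (h : Faith F p P A) (hf : Mor F P f) (hA : A ≤ P) :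
    Faith F p (im f P) (im f A) := fun α hα hc e => by
  obtain ⟨τ, hτ⟩ := hf.homOn.exists_congr hf.injOn rfl
  obtain ⟨β, rfl⟩ := τ.surjective α
  rw [h β ((hf.congr_mem_autGroup rfl hτ β).1 hα) (by rwa [MulEquiv.orderOf_eq] at hc)
    fun x hx => hf.injOn (ext_mem β (hA hx)) (hA hx)
      ((hτ β x (hA hx)).symm.trans (e _ (mem_im_of_mem f hx))), map_one]

variable [Finite S] [Fact p.Prime]

theorem exists_small (hS : IsPGroup p S) (hP : P ≤ S) (hU : F.StronglyClosed U) :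
    ∃ D ≤ P ⊓ U, F.autGroup P ≤ stab P D ∧ (∀ x ∈ D, SmallElt p x) ∧
      ∀ α ∈ F.autGroup P, (orderOf α).Coprime p → (∀ x ∈ P, x⁻¹ * ext α x ∈ U) →
        (∀ x ∈ D, ext α x = x) → α = 1 := by
  have := finite_of_le hP
  obtain ⟨D, h1, h2, -, h3⟩ := exists_critical_small_aut ((hS.to_le hP).to_inf_left (K := U))
  have hs : ∀ α ∈ F.autGroup P, α ∈ stab P (P ⊓ U) := fun α hα => mem_stab_of_mem inf_le_left
    fun x hx => ⟨ext_mem α hx.1, (mor_ext hP hα).mem_of_stronglyClosed hU hx.1 hx.2⟩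
  have := finite_of_le ((map_subtype_le D).trans inf_le_left)
  refine ⟨D.map (P ⊓ U).subtype, map_subtype_le D, fun α hα => mem_stab_of_mem
    ((map_subtype_le D).trans inf_le_left) ?_, ?_, fun α hα hc h e => ?_⟩
  · rintro _ ⟨x, hx, rfl⟩
    exact ⟨_, h1 (res inf_le_left ⟨α, hs α hα⟩) x hx,
      (ext_coe _ x).symm.trans (ext_res inf_le_left _ x.2)⟩
  · rintro _ ⟨x, hx, rfl⟩
    exact (homOn_hom ⊤ (P ⊓ U).subtype).smallElt (mem_top x) (h2 x hx)
  · have h4 := h3 (res inf_le_left ⟨α, hs α hα⟩) (Nat.Coprime.coprime_dvd_left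
      ((orderOf_map_dvd _ _).trans (by rw [← orderOf_coe])) hc) fun x hx => Subtype.ext
        ((ext_coe _ x).symm.trans ((ext_res inf_le_left _ x.2).trans (e _ ⟨x, hx, rfl⟩)))
    refine eq_one_of_ext fun x hx => ext_eq_of_coprime (B := U) (hS.to_le hP) hc
      (fun b hb hb' => ?_) hx (h x hx)
    rw [← ext_res inf_le_left ⟨α, hs α hα⟩ (show b ∈ P ⊓ U from ⟨hb, hb'⟩), h4, ext_one]

/-- An element normalizing a centric radical subgroup and stabilizing an invariant chain through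
the small elements lies in the subgroup. -/
theorem mem_of_small_chain (hS : IsPGroup p S) (hc : F.IsCentric P) (hr : F.IsRadical p P)
    (hU : F.StronglyClosed U) {K : Subgroup (MulAut P)}
    (hK : F.autGroup P ≤ normalizer (K : Set (MulAut P)))
    (hK' : ∀ α ∈ F.autGroup P, α ∈ K → (orderOf α).Coprime p → ∀ x ∈ P, x⁻¹ * ext α x ∈ U)
    (C : ℕ → Subgroup Ω) (n : ℕ) (h0 : C 0 = ⊥) (hn : ∀ x ∈ P ⊓ U, SmallElt p x → x ∈ C n)
    (h1 : ∀ i ≤ n, ∀ α ∈ F.autGroup P, ∀ x ∈ P ⊓ U, SmallElt p x → x ∈ C i → ext α x ∈ C i)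
    {s : Ω} (hs : s ∈ normalizerIn S P) (hsK : cjA P s ∈ K)
    (h2 : ∀ i < n, ∀ x ∈ P ⊓ U, SmallElt p x → x ∈ C (i + 1) → ⁅x⁻¹, s⁆ ∈ C i) : s ∈ P := by
  obtain ⟨D, hD, h3, h4, h5⟩ := exists_small hS hc.1 hU
  have hDP := hD.trans inf_le_left
  have := finite_of_le (hDP.trans hc.1)
  have hst : ∀ i ≤ n, F.autGroup P ≤ stab P (D ⊓ C i) := fun i hi α hα =>
    mem_stab_of_mem (inf_le_left.trans hDP) fun x hx =>
      ⟨ext_mem_of_stab (h3 hα) hDP hx.1, h1 i hi α hα x (hD hx.1) (h4 x hx.1) hx.2⟩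
  refine mem_of_radical hc hr (K := K ⊓ ⨅ i : Fin n, triv P (D ⊓ C (i + 1)) (D ⊓ C i))
    (Core.le_normalizer_inf hK (le_normalizer_iff.2 fun γ hγ α hα => mem_iInf.2 fun i =>
      conj_mem_of_mem_normalizer (le_normalizer_triv (hst _ (by omega)) (hst _ (by omega)) hγ)
        (mem_iInf.1 hα i))) (fun α hα h hcop => h5 α hα hcop (hK' α hα h.1 hcop) fun x hx =>
      fix_of_chain (hS.to_le hc.1) hcop (fun i => D ⊓ C i) (by rw [h0, inf_bot_eq]) n
        (fun i hi => (mem_iInf.1 h.2 ⟨i, hi⟩).2) x (hDP hx) ⟨hx, hn x (hD hx) (h4 x hx)⟩) hs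
    ⟨hsK, mem_iInf.2 fun i => ⟨hst _ (by omega) (cjA_mem_autGroup F hc.1 hs.1), fun x hx h =>
      mem_inf.2 ⟨mul_mem (inv_mem h.1) 
        (ext_mem_of_stab (h3 (cjA_mem_autGroup F hc.1 hs.1)) hDP h.1), ?_⟩⟩⟩
  simpa [ext_cjA hs.2 hx, commutatorElement_def, mul_assoc] using
    h2 i i.2 x (hD h.1) (h4 x h.1) h.2

theorem Sat.normal_top_of_chain (hF : Sat F p) (C : ℕ → Subgroup Ω) (n : ℕ) (h0 : C 0 = ⊥)
    (hn : ∀ x ∈ F.hyperfocalSubgroup p, SmallElt p x → x ∈ C n)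
    (h1 : ∀ i ≤ n, ∀ x ∈ F.hyperfocalSubgroup p, SmallElt p x → x ∈ C i →
      ∀ y, F.IsConjElt x y → y ∈ C i)
    (h2 : ∀ i < n, ∀ x ∈ F.hyperfocalSubgroup p, SmallElt p x → x ∈ C (i + 1) →
      ∀ s ∈ S, ⁅x⁻¹, s⁆ ∈ C i) : F.IsNormal S :=
  hF.normal_of_le_fcr (weaklyClosed_of_stronglyClosed (stronglyClosed_top F)) fun _ _ hc hr =>
    le_of_normalizer_le hF.pg hc.1 le_rfl (hc.1.trans le_normalizer) fun s hs hs' =>
      mem_of_small_chain hF.pg hc hr hF.stronglyClosed_hyp (K := ⊤) le_normalizer_of_normal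
        (fun _ hα _ hcop _ hx => mem_hyp hc.1 hα hcop hx) C n h0 (fun x hx => hn x hx.2)
        (fun i hi _ hα x hx h h' => h1 i hi x hx.2 h h' _ ((mor_ext hc.1 hα).isConjElt hx.1))
        ⟨hs, hs'⟩ (mem_top _) fun i hi x hx h h' => h2 i hi x hx.2 h h' s hs

theorem Sat.normal_top_of_small (hF : Sat F p)
    (h : ∀ x ∈ F.hyperfocalSubgroup p, SmallElt p x → ∀ y, F.IsConjElt x y →
      ∃ g, Mor F S g ∧ g x = y) : F.IsNormal S := by
  obtain ⟨C, n, h0, hn, -, hle, hc, hch⟩ := exists_central_series hF.pg (le_refl S)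
  refine hF.normal_top_of_chain C n h0 (fun x hx _ => hn ▸ hyp_le F p hx)
    (fun i _ x hx h1 h2 y hy => ?_) fun i _ x _ _ h2 s hs =>
      hc i (commutator_mem_commutator (inv_mem h2) hs)
  obtain ⟨g, hg, rfl⟩ := h x hx h1 y hy
  obtain ⟨α, -, e⟩ := hg.exists_aut_top
  rw [← e x (hle i h2), ← im_ext_eq_of_characteristic α (hle i) (hch i)]
  exact mem_im_of_mem _ h2

theorem Sat.hyp_eq_bot_of_small (hF : Sat F p)
    (h : ∀ x ∈ F.hyperfocalSubgroup p, SmallElt p x → ∀ y, F.IsConjElt x y →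
      ∃ s ∈ S, y = s * x * s⁻¹) : F.hyperfocalSubgroup p = ⊥ := by
  obtain ⟨C, n, h0, hn, -, hle, hc, hch⟩ := exists_central_series hF.pg (le_refl S)
  refine hyp_eq_bot_iff.2 fun P hP α hα hcop => ?_
  obtain ⟨D, hD, h3, h4, h5⟩ := exists_small hF.pg hP hF.stronglyClosed_hyp
  refine h5 α hα hcop (fun x hx => mem_hyp hP hα hcop hx) fun x hx =>
    fix_of_chain (hF.pg.to_le hP) hcop (fun i => D ⊓ C i) (by rw [h0, inf_bot_eq]) n
      (fun i _ y hy h6 => mem_inf.2 ⟨mul_mem (inv_mem h6.1)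
        (ext_mem_of_stab (h3 hα) (hD.trans inf_le_left) h6.1), ?_⟩) x (hD hx).1
      ⟨hx, hn ▸ hP (hD hx).1⟩
  obtain ⟨s, hs, e⟩ := h y (hD h6.1).2 (h4 y h6.1) _ ((mor_ext hP hα).isConjElt hy)
  simpa [e, commutatorElement_def, mul_assoc] using
    hc i (commutator_mem_commutator (inv_mem h6.2) hs)

theorem exists_small_abelian (hS : IsPGroup p S) (hP : P ≤ S)
    (hU : F.StronglyClosed (F.hyperfocalSubgroup p)) :
    ∃ A ≤ P ⊓ F.hyperfocalSubgroup p, P ≤ normalizer (A : Set Ω) ∧ IsMulCommutative A ∧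
      (∀ x ∈ A, SmallElt p x) ∧ Faith F p P A := by
  obtain ⟨D, hD, h3, h4, h5⟩ := exists_small hS hP hU
  have hDP := hD.trans inf_le_left
  have := finite_of_le hP
  have := finite_of_le hDP
  have hn : P ≤ normalizer (D : Set Ω) := fun s hs => mem_normalizer_of_conj_mem fun x hx => by
    rw [← ext_cjA (le_normalizer hs) (hDP hx)]
    exact ext_mem_of_stab (h3 (cjA_mem_autGroup F hP (hP hs))) hDP hx
  obtain ⟨A, ⟨h6, h7, h8⟩, hA⟩ := exists_max_of_le (S := D)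
    (C := fun A => A ≤ D ∧ P ≤ normalizer (A : Set Ω) ∧ IsMulCommutative A) (fun _ h => h.1)
    (fun A => Nat.card A) (P₀ := ⊥) ⟨bot_le, le_normalizer_iff_commutator_le_right.2 (by simp),
      inferInstance⟩
  have h9 : D ⊓ centralizer (A : Set Ω) ≤ A := by
    by_contra hne
    have := (hS.to_le hP).isNilpotent
    obtain ⟨x, hx, hxA, hx'⟩ := PGroup.exists_mem_not_mem_commutator_mem (inf_le_left.trans hDP)
      (PGroup.le_normalizer_inf hn (h7.trans (PGroup.normalizer_le_normalizer_centralizer A))) hne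
    have h10 : A ⊔ zpowers x ≤ D := sup_le h6 (zpowers_le.2 hx.1)
    have := finite_of_le h10
    refine (hA _ ⟨h10, fun s hs => mem_normalizer_of_conj_mem ?_,
      PGroup.isMulCommutative_sup_zpowers hx.2⟩).not_gt
      (card_lt_of_lt' (left_lt_sup.2 (mt zpowers_le.1 hxA)))
    refine (homOn_conj _ s).mem_of_sup (fun y hy => mem_sup_left
      (conj_mem_of_mem_normalizer (h7 hs) hy)) (im_le_iff.1 ?_)
    rw [(homOn_conj ⊤ s).im_zpowers (mem_top x), zpowers_le]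
    simpa [commutatorElement_def, mul_assoc] using
      mul_mem (mem_sup_left (T := zpowers x) (inv_mem (hx' s hs))) (mem_sup_right (mem_zpowers x))
  exact ⟨A, h6.trans hD, h7, h8, fun x hx => h4 x (h6 hx), fun α hα hc e => h5 α hα hc
    (fun x hx => mem_hyp hP hα hc hx) fun x hx => ext_eq_of_coprime (hS.to_le hP) hc
      (fun b _ hb => e b hb) (hDP hx) (h9 (mem_inf.2
        ⟨mul_mem (inv_mem hx) (ext_mem_of_stab (h3 hα) hDP hx),
        (homOn_ext α).inv_mul_mem_centralizer (h6.trans hDP) e (hDP hx) (h7 (hDP hx))⟩))⟩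

/-- Abelian subgroups of small exponent of the hyperfocal subgroup control fusion. -/
theorem Sat.sub_of_small_abelian (hF : Sat F p) (hE : Sat E p) (hEF : E.IsSubsystemOf F)
    (h : ∀ A ≤ F.hyperfocalSubgroup p, IsMulCommutative A → (∀ x ∈ A, SmallElt p x) →
      ∀ f, Mor F A f → Mor E A f) : F.IsSubsystemOf E := by
  suffices H : ∀ P, P ≤ S → ∀ f, Mor F P f → Mor E P f from
    isSubsystemOf_iff.2 fun P f hf => H P hf.le f hf
  refine induction_down fun P hP ih f hf => ?_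
  obtain ⟨A, hA, h1, h2, h3, h4⟩ := exists_small_abelian hF.pg hP hF.stronglyClosed_hyp
  have hAP := hA.trans inf_le_left
  obtain ⟨β, hβ, hB⟩ := hE.exists_fn (hf.mono hAP).im_le
  have hm : ∀ x ∈ P, f x ∈ normalizerIn S (im f A) := fun x hx => hf.mem_normalizerIn hAP hx (h1 hx)
  have hk := hf.comp (hβ.of_sub hEF) hm
  rw [← (hf.mono hAP).homOn.im_comp] at hB
  suffices H : Mor E P fun x => β (f x) by
    obtain ⟨g, hg, e, -⟩ := hβ.inv
    exact (H.comp hg fun x hx => mem_im_of_mem β (hm x hx)).congr fun x hx => (e _ (hm x hx)).symm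
  generalize (fun x => β (f x)) = k at hk hB
  obtain ⟨ψ, hψ, e⟩ := hE.extend (h A (hA.trans inf_le_right) h2 h3 k (hk.mono hAP)) (hE.fc hB)
    fun s hs => hk.mem_extr hAP (fun _ _ => rfl) hs (h1 hs)
  rw [sup_eq_right.2 hAP] at hψ
  obtain ⟨j, hj, e1, e2, -⟩ := hk.inv
  have hγ := hj.comp (hψ.of_sub hEF) fun y hy => (e2 y hy).1
  suffices H : Mor E (im k P) fun y => ψ (j y) by
    obtain ⟨g, hg, e3, -⟩ := H.inv
    refine (hψ.comp hg fun x hx => ?_).congr fun x hx => ?_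
    · rw [← e1 x hx]; exact mem_im_of_mem (fun y => ψ (j y)) (mem_im_of_mem k hx)
    · rw [← e3 _ (mem_im_of_mem k hx), e1 x hx]
  have hB' : F.IsFullyNormalized (im k A) := ⟨hB.1, fun Q hQ => hB.2 Q (by
    obtain ⟨g, hg, rfl⟩ := isConj_iff.1 hQ
    refine (h _ (im_le_iff.2 fun x hx =>
      hk.mem_of_stronglyClosed hF.stronglyClosed_hyp (hA hx).1 (hA hx).2)
      (PGroup.isMulCommutative_iff.2 fun a ha b hb => ?_) (fun a ha => ?_) g hg).isConj
    · obtain ⟨a, ha', rfl⟩ := (hk.mono hAP).mem_im.1 ha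
      obtain ⟨b, hb', rfl⟩ := (hk.mono hAP).mem_im.1 hb
      rw [← hk.homOn _ (hAP ha') _ (hAP hb'), ← hk.homOn _ (hAP hb') _ (hAP ha'),
        PGroup.isMulCommutative_iff.1 h2 a ha' b hb']
    · obtain ⟨a, ha', rfl⟩ := (hk.mono hAP).mem_im.1 ha
      exact hk.homOn.smallElt (hAP ha') (h3 a ha'))⟩
  have h5 := h4.im hk hAP
  have h6 := im_mono k hAP
  have h7 : im k P ≤ normalizerIn S (im k A) := im_le_iff.2 fun x hx =>
    hk.mem_normalizerIn hAP hx (h1 hx)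
  have h8 : ∀ y ∈ im k A, ψ (j y) = y := fun y hy => by
    obtain ⟨a, ha, rfl⟩ := (hk.mono hAP).mem_im.1 hy
    rw [e1 a (hAP ha), e a ha]
  have h9 := hk.card_im
  generalize im k P = R at *
  generalize im k A = B at *
  obtain ⟨D, hD⟩ := exists_kMor F hB.1 (autInducedBy R B) rfl
  have hT := (normK_le S B (autInducedBy R B)).trans (normalizerIn_le S B)
  have := finite_of_le hT
  have hD' := hF.sat_kMor (hF.fc hB') (by
    rw [relIndex_eq_one.2 (inf_le_right.trans (autInducedBy_mono hγ.le B))]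
    exact (Fact.out : p.Prime).not_dvd_one) rfl hD
  have hDF : ∀ {Q g}, Mor D Q g → Mor F Q g := fun hg => ((hD _ _).1 hg).mor
  refine hD'.induction (C := fun Q g => B ≤ Q → Nat.card P ≤ Nat.card Q → Faith F p Q B →
    Mor E Q g) (fun Q Q' g g' hg hC hle e a b c => ?_) (fun Q Q' g g' hg hg' hC hC' hm a b c => ?_)
    (fun Q hQ _ α hα a _ c => ?_) ((hD _ _).2 ⟨fun s hs => mem_normK.2
      ⟨h7 hs, cjA_mem_autInducedBy hs⟩, _, by rwa [sup_eq_left.2 h6], fun _ _ => rfl, 1, one_mem _,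
      fun x hx => by rw [h8 x hx, ext_one]⟩) h6 h9.ge h5
  · rcases hle.eq_or_lt with rfl | hlt
    · exact (hC a b c).congr e
    · have := finite_of_le hg.le
      exact ((ih Q' (hDF hg).le (b.trans_lt (card_lt_of_lt' hlt)) g' (hDF hg)).mono hle).congr e
  · refine (hC a b c).comp ?_ hm
    have := finite_of_le hg'.le
    by_cases hlt : Nat.card P < Nat.card Q'
    · exact ih Q' (hDF hg').le hlt g' (hDF hg')
    obtain ⟨-, g₀, -, e₀, κ, -, e₁⟩ := (hD _ _).1 hg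
    have h10 : im g B = B :=
      (im_congr fun x hx => (e₀ x (a hx)).symm.trans (e₁ x hx)).trans (im_ext κ)
    have h11 := c.im (hDF hg) a
    rw [h10, hg.im_eq_of_card_le hm ((not_lt.1 hlt).trans b)] at h11
    exact hC' (h10.ge.trans (im_le_iff.2 fun x hx => hm x (a hx))) (b.trans (hg.card_le hm)) h11
  · have := finite_of_le hQ.1
    have := finite_of_le a
    rw [hD'.autGroup_eq_of_isPGroup hQ (isPGroup_of_coprime_eq_one fun δ hδ hc => ?_)] at hα
    · exact mor_ext (hQ.1.trans hT)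
        (autInducedBy_le_autGroup E (hQ.1.trans hT) (autInducedBy_mono hT Q hα))
    obtain ⟨-, g₀, -, e₀, κ, hκ, e₁⟩ := (hD _ _).1 (mor_ext hQ.1 hδ)
    have e₂ : ∀ x ∈ B, ext δ x = ext κ x := fun x hx => (e₀ x (a hx)).symm.trans (e₁ x hx)
    have hs : δ ∈ stab Q B := mem_stab_of_mem a fun x hx => e₂ x hx ▸ ext_mem κ hx
    refine c δ (hDF (mor_ext hQ.1 hδ)).mem_autGroup hc fun x hx => ?_
    rw [e₂ x hx, eq_one_of_isPGroup_of_coprime (isPGroup_autInducedBy (hF.pg.to_le hγ.le) B) hκ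
      (Nat.Coprime.coprime_dvd_left ?_ hc), ext_one]
    rw [eq_of_ext (α := κ) (β := res a ⟨δ, hs⟩) fun x hx => (e₂ x hx).symm.trans
      (ext_res a ⟨δ, hs⟩ hx).symm]
    exact (orderOf_map_dvd _ _).trans (by rw [← orderOf_coe])

end Cfsg.Lib.Fusion
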