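import Cfsg.Agent.Lib.Fusion.Transfer
import Cfsg.Agent.Lib.Fusion.PIndex
import Cfsg.Agent.Lib.Fusion.Prod
import Cfsg.Agent.Lib.Fusion.Glaub

/-!
Tate's theorem for saturated fusion systems.
-/

set_option autoImplicit false

namespace Cfsg.Lib.Fusion

open Subgroup Cfsg.Lib.Transfer MonoidHom
open Cfsg.FusionSystem hiding inv_mem
open scoped commutatorElement IsMulCommutative

variable {p : ℕ}

section Prod

variable {Ω₁ Ω₂ : Type*} [Group Ω₁] [Group Ω₂] {S₁ : Subgroup Ω₁} {S₂ : Subgroup Ω₂}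
  {T : Subgroup (Ω₁ × Ω₂)} {F₁ : FusionSystem S₁} {F₂ : FusionSystem S₂} {E : FusionSystem T}

theorem Prd.mph_fst (h : Prd F₁ F₂ E) : Mph E F₁ (MonoidHom.fst Ω₁ Ω₂) :=
  ⟨homOn_hom _ _, fun _ hx => (h.mem_iff.1 hx).1, fun hf => by
    obtain ⟨f₁, f₂, h₁, -, e⟩ := h.exists_ext hf
    exact ⟨f₁, im_hom (MonoidHom.fst Ω₁ Ω₂) _ ▸ h₁, fun x hx => by rw [e x hx]; rfl⟩⟩

theorem Prd.mph_snd (h : Prd F₁ F₂ E) : Mph E F₂ (MonoidHom.snd Ω₁ Ω₂) :=
  ⟨homOn_hom _ _, fun _ hx => (h.mem_iff.1 hx).2, fun hf => by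
    obtain ⟨f₁, f₂, -, h₂, e⟩ := h.exists_ext hf
    exact ⟨f₂, im_hom (MonoidHom.snd Ω₁ Ω₂) _ ▸ h₂, fun x hx => by rw [e x hx]; rfl⟩⟩

theorem Prd.mph_inl (h : Prd F₁ F₂ E) : Mph F₁ E (MonoidHom.inl Ω₁ Ω₂) :=
  ⟨homOn_hom _ _, fun _ hx => h.mem_iff.2 ⟨hx, one_mem _⟩, fun hf =>
    ⟨_, h.mor_of hf (mor_id F₂ le_rfl) (im_le_iff.2 fun _ hx => ⟨hx, one_mem _⟩),
      fun _ _ => rfl⟩⟩

theorem Prd.mph_inr (h : Prd F₁ F₂ E) : Mph F₂ E (MonoidHom.inr Ω₁ Ω₂) :=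
  ⟨homOn_hom _ _, fun _ hx => h.mem_iff.2 ⟨one_mem _, hx⟩, fun hf =>
    ⟨_, h.mor_of (mor_id F₁ le_rfl) hf (im_le_iff.2 fun _ hx => ⟨one_mem _, hx⟩),
      fun _ _ => rfl⟩⟩

theorem Prd.hyp_eq (h : Prd F₁ F₂ E) :
    E.hyperfocalSubgroup p = (F₁.hyperfocalSubgroup p).prod (F₂.hyperfocalSubgroup p) := by
  refine le_antisymm (fun x hx => ⟨h.mph_fst.im_hyp_le (mem_im_of_mem _ hx),
    h.mph_snd.im_hyp_le (mem_im_of_mem _ hx)⟩) fun x hx => ?_
  rw [← Prod.fst_mul_snd x]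
  exact mul_mem (h.mph_inl.im_hyp_le (mem_im_of_mem _ hx.1))
    (h.mph_inr.im_hyp_le (mem_im_of_mem _ hx.2))

end Prod

variable {Ω : Type*} [Group Ω] {S : Subgroup Ω} {F H : FusionSystem S} [Finite S] [Fact p.Prime]
  {C : Type*} [CommGroup C]

theorem le_of_forall_commutator_le (hS : IsPGroup p S) {U V : Subgroup Ω} (hU : U ≤ S)
    (hnU : S ≤ normalizer (U : Set Ω)) (hnV : S ≤ normalizer (V : Set Ω))
    (h : ∀ L : Subgroup Ω, U ⊓ V ≤ L → ⁅U, S⁆ ≤ L → (∀ x ∈ U, x ^ p ∈ L) → U ≤ L) : U ≤ V := by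
  by_contra hne
  obtain ⟨L, ⟨h1, h2, h3⟩, hL⟩ := exists_max_of_le (S := S)
    (C := fun L => U ⊓ V ≤ L ∧ L < U ∧ S ≤ normalizer (L : Set Ω)) (fun L h => h.2.1.le.trans hU)
    (fun L => Nat.card L) (P₀ := U ⊓ V)
    ⟨le_rfl, inf_lt_left.2 hne, (le_inf hnU hnV).trans inf_normalizer_le_normalizer_inf⟩
  have := normal_subgroupOf_of_le_normalizer hnU
  have := normal_subgroupOf_of_le_normalizer h3
  obtain ⟨K, hK, h4, h5, h6, h7⟩ := PGroup.exists_normal_card_eq_mul hS (M := L.subgroupOf S)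
    (N := U.subgroupOf S) ((subgroupOf_mono S h2.le).lt_of_ne fun e => h2.not_ge fun x hx =>
      e.ge (show (⟨x, hU hx⟩ : S) ∈ _ from hx))
  have hLS := h2.le.trans hU
  have h8 : K = U.subgroupOf S := by
    by_contra hne
    have h9 : K.map S.subtype < U := (map_le_iff_le_comap.2 h5).lt_of_ne fun e =>
      hne (by rw [← e, subgroupOf, comap_map_eq_self_of_injective S.subtype_injective])
    have := hL (K.map S.subtype) ⟨h1.trans fun x hx => ⟨⟨x, hLS hx⟩, h4 hx, rfl⟩, h9,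
      (normal_subgroupOf_iff_le_normalizer (map_subtype_le K)).1 (by
        rwa [subgroupOf, comap_map_eq_self_of_injective S.subtype_injective])⟩
    rw [card_map_of_injective S.subtype_injective, h6,
      Nat.card_congr (subgroupOfEquivOfLe hLS).toEquiv] at this
    have _ : Finite L := finite_of_le hLS
    exact this.not_gt (lt_mul_of_one_lt_left Nat.card_pos (Fact.out : p.Prime).one_lt)
  subst h8
  refine h2.not_ge (h L h1 (commutator_le.2 fun x hx y hy => ?_) fun x hx => ?_)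
  · exact h7 (commutator_mem_commutator (show (⟨x, hU hx⟩ : S) ∈ U.subgroupOf S from hx)
      (mem_top (⟨y, hy⟩ : S)))
  · have := (L.subgroupOf S).pow_relIndex_mem (show (⟨x, hU hx⟩ : S) ∈ U.subgroupOf S from hx)
    rwa [Nat.eq_of_mul_eq_mul_left Nat.card_pos
      ((PGroup.card_mul_relIndex h4).trans (h6.trans (mul_comm _ _)))] at this

theorem commutator_le_frattini_map (hS : IsPGroup p S) : ⁅S, S⁆ ≤ (frattini S).map S.subtype :=
  map_subtype_commutator S ▸ map_mono (PGroup.commutator_le_frattini hS)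

theorem Sat.eq_one_of_stable' (hF : Sat F p) (l : S →* C) {z : S}
    (hz : ∀ τ : S →* C, (∀ x : S, x.1 ∈ F.focalSubgroup → τ x = 1) → τ z = 1)
    (hp : ∃ k, l z ^ p ^ k = 1)
    (h : ∀ (k : ℕ) (y : S), F.IsConjElt (z.1 ^ k) y → l y = l z ^ k) : l z = 1 := by
  obtain ⟨n, P, φ, c, h1, h2, h3⟩ := hF.exists_transfer l
  have h4 := hz (∏ i, transfer (l.comp (φ i)) ^ c i) fun x hx => by simpa using h3 x hx
  simp only [finsetProd_apply, MonoidHom.zpow_apply] at h4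
  refine eq_one_of_prod_index hF.pg h2 hp (Eq.trans (Finset.prod_congr rfl fun i _ => ?_) h4)
  rw [transfer_eq_pow_of_forall (l.comp (φ i)) (a := l z) fun k x hk => h k (φ i ⟨_, hk⟩) ?_]
  obtain ⟨f, hf, e⟩ := h1 i
  rw [← e]
  exact ((mor_conj' F (zpowers_le.2 (z ^ k).2) x.2).comp hf fun y hy =>
    mem_conj.1 (zpowers_le.2 (mem_conj.2 (mem_map_of_mem S.subtype hk)) hy)).isConjElt
      (mem_zpowers _)

theorem Sat.eq_one_of_mem_frattini (hF : Sat F p) (hC : ∀ a : C, a ^ p = 1) {χ : Ω → C}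
    (hχ : HomOn (F.hyperfocalSubgroup p) χ)
    (hi : ∀ s ∈ S, ∀ u ∈ F.hyperfocalSubgroup p, χ (s * u * s⁻¹) = χ u) {u : Ω}
    (hu : u ∈ F.hyperfocalSubgroup p) (hΦ : u ∈ (frattini S).map S.subtype) : χ u = 1 := by
  obtain ⟨E, hE⟩ := exists_prd F (innerFusionSystem S)
  have hEs := hE.sat hF (sat_inner hF.pg)
  have hn : ∀ {s x : Ω}, s ∈ S → x ∈ F.hyperfocalSubgroup p → s⁻¹ * x * s ∈ F.hyperfocalSubgroup p :=
    fun hs hx => conj_mem_of_mem_normalizer' (le_normalizer_hyp F p hs) hx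
  let D : Subgroup (Ω × Ω) :=
    { carrier := {x | x ∈ S.prod S ∧ x.1⁻¹ * x.2 ∈ F.hyperfocalSubgroup p}
      mul_mem' := fun {a b} ha hb => ⟨mul_mem ha.1 hb.1, by
        simpa [mul_assoc] using mul_mem (hn hb.1.1 ha.2) hb.2⟩
      one_mem' := ⟨one_mem _, by simp⟩
      inv_mem' := fun {a} ha => ⟨inv_mem ha.1, by
        simpa [mul_assoc] using conj_mem_hyp ha.1.1 (inv_mem ha.2)⟩ }
  have hh : E.hyperfocalSubgroup p = (F.hyperfocalSubgroup p).prod ⊥ := by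
    rw [hE.hyp_eq, hyp_inner hF.pg]
  obtain ⟨A, hA, hA'⟩ := hEs.exists_pIndex (T := D) (hh.le.trans fun x hx =>
    ⟨⟨hyp_le F p hx.1, bot_le (a := S) hx.2⟩, by rw [mem_bot.1 hx.2, mul_one]; exact inv_mem hx.1⟩)
    fun _ hx => hx.1
  have : Finite D := finite_of_le (S := S.prod S) fun _ hx => hx.1
  have hl : HomOn D fun x => χ (x.1⁻¹ * x.2) := fun a ha b hb => by
    have := hi _ (inv_mem hb.1.1) _ ha.2
    rw [inv_inv] at this
    beta_reduce
    rw [← this, ← hχ _ (hn hb.1.1 ha.2) _ hb.2]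
    simp [mul_assoc]
  have huS := hyp_le F p hu
  have h1 : ((1, u) : Ω × Ω) ∈ D := ⟨⟨one_mem _, huS⟩, by simpa using hu⟩
  have h2 : ((u, 1) : Ω × Ω) ∈ D := ⟨⟨huS, one_mem _⟩, by simpa using hu⟩
  let d : S →* D := ((S.subtype.prod S.subtype)).codRestrict D fun s => ⟨⟨s.2, s.2⟩, by simp⟩
  have := hA.eq_one_of_stable' hl.toHom (z := ⟨_, h1⟩) (fun τ hτ => ?_) ⟨1, by rw [pow_one, hC]⟩
    fun k y hy => ?_
  · simpa using this
  · have h3 : frattini S ≤ (τ.comp d).ker := (PGroup.frattini_le_iff hF.pg).2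
      ⟨Abelianization.commutator_subset_ker _, fun x => by rw [mem_ker, map_pow, hC]⟩
    obtain ⟨v, hv, rfl⟩ := hΦ
    have h4 := hτ ⟨_, h2⟩ (hyp_le_focal A p (by
      rw [hyp_eq_of_pIndex hEs.pg hA', hh]; exact ⟨hu, mem_bot.2 rfl⟩))
    have h5 : d v = ⟨_, h2⟩ * ⟨_, h1⟩ := Subtype.ext (by simp [d])
    have h6 : τ (d v) = 1 := h3 hv
    rwa [h5, map_mul, h4, one_mul] at h6
  · obtain ⟨f, hf, e⟩ := isConjElt_iff.1 hy
    obtain ⟨f₁, f₂, h3, h4, e'⟩ := hE.exists_ext (hf.of_sub hA'.1)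
    obtain ⟨-, s, hs, h5⟩ := mor_inner.1 h4
    rw [e' _ (mem_zpowers _), h5 _ (mem_pr2 (mem_zpowers _))] at e
    simp only [Prod.pow_mk, one_pow, h3.homOn.map_one] at e
    simp only [HomOn.toHom_apply, ← e, inv_one, one_mul]
    rw [hi s hs _ (pow_mem hu k), hχ.map_pow hu]

/-- The key step of Tate's theorem. -/
theorem Sat.hyp_inf_frattini_le (hF : Sat F p) {L : Subgroup Ω}
    (h1 : ⁅F.hyperfocalSubgroup p, S⁆ ≤ L) (h2 : ∀ u ∈ F.hyperfocalSubgroup p, u ^ p ∈ L) :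
    F.hyperfocalSubgroup p ⊓ (frattini S).map S.subtype ≤ L := by
  set U := F.hyperfocalSubgroup p
  have hc : _root_.commutator U ≤ L.subgroupOf U := commutator_le.2 fun x _ y _ =>
    h1 (commutator_mem_commutator x.2 (hyp_le F p y.2))
  have : (L.subgroupOf U).Normal := Normal.of_commutator_le U hc
  have : IsMulCommutative (U ⧸ L.subgroupOf U) := (Normal.quotient_commutative_iff_commutator_le).2 hc
  intro u hu
  have := hF.eq_one_of_mem_frattini (χ := fn (QuotientGroup.mk' (L.subgroupOf U))) (fun a => ?_)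
    (homOn_fn _) (fun s hs v hv => ?_) hu.1 hu.2
  · rw [fn_apply _ hu.1] at this
    exact (QuotientGroup.eq_one_iff (⟨u, hu.1⟩ : U)).1 this
  · obtain ⟨a, rfl⟩ := QuotientGroup.mk'_surjective _ a
    exact (QuotientGroup.eq_one_iff (a ^ p)).2 (h2 a a.2)
  · rw [fn_apply _ hv, fn_apply _ (conj_mem_hyp hs hv), eq_comm]
    refine QuotientGroup.eq.2 ?_
    simpa [mem_subgroupOf, commutatorElement_def, mul_assoc] using
      h1 (commutator_mem_commutator (inv_mem hv) hs)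

/-- Tate's theorem: a subgroup normal in `S` that supplements the Frattini subgroup in the
hyperfocal subgroup contains it. -/
theorem Sat.hyp_le_of_le_sup_frattini (hF : Sat F p) {V : Subgroup Ω}
    (hV : V ≤ F.hyperfocalSubgroup p) (hn : S ≤ normalizer (V : Set Ω))
    (h : F.hyperfocalSubgroup p ≤ V ⊔ (frattini S).map S.subtype) : F.hyperfocalSubgroup p ≤ V := by
  refine le_of_forall_commutator_le hF.pg (hyp_le F p) (le_normalizer_hyp F p) hn
    fun L h1 h2 h3 u hu => ?_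
  obtain ⟨v, hv, w, hw, rfl⟩ := exists_mul_of_mem_sup ((map_subtype_le _).trans hn) (h hu)
  exact mul_mem (h1 ⟨hV hv, hv⟩)
    (hF.hyp_inf_frattini_le h2 h3 ⟨(mul_mem_cancel_left (hV hv)).1 hu, hw⟩)

theorem Sat.hyp_eq_bot_of_le_frattini (hF : Sat F p)
    (h : F.hyperfocalSubgroup p ≤ (frattini S).map S.subtype) : F.hyperfocalSubgroup p = ⊥ :=
  eq_bot_iff.2 (hF.hyp_le_of_le_sup_frattini bot_le
    (le_normalizer_of_stronglyClosed (stronglyClosed_bot F)) (h.trans le_sup_right))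

/-- Tate's theorem for a saturated subsystem over the same group. -/
theorem Sat.hyp_eq_of_focal_le (hF : Sat F p) (hH : Sat H p) (hHF : H.IsSubsystemOf F)
    (h : F.focalSubgroup ≤ (frattini S).map S.subtype ⊔ H.focalSubgroup) :
    F.hyperfocalSubgroup p = H.hyperfocalSubgroup p := by
  refine le_antisymm (hF.hyp_le_of_le_sup_frattini (hyp_mono hHF) (le_normalizer_hyp H p)
    ((hyp_le_focal F p).trans (h.trans ?_))) (hyp_mono hHF)
  rw [hH.focal_eq]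
  exact sup_le le_sup_right (sup_le_sup_left (commutator_le_frattini_map hF.pg) _)

/-- If `Aut_F(S)` is a `p`-group and a strongly closed subgroup lies between the derived subgroup
and the Frattini subgroup, the system is inner. -/
theorem Sat.hyp_eq_bot_of_nInn_top (hF : Sat F p) (h : NInn F p S) {Q : Subgroup Ω}
    (hQ : F.StronglyClosed Q) (h1 : ⁅S, S⁆ ≤ Q) (h2 : Q ≤ (frattini S).map S.subtype) :
    F.hyperfocalSubgroup p = ⊥ := by
  obtain ⟨Ω', _, _, t, E, hE⟩ := exists_quotient hQ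
  refine hF.hyp_eq_bot_of_le_frattini ((hE.hyp_le_ker hQ hF ?_).trans h2)
  refine (hE.im_eq ▸ hE.nInn hQ hQ.1 le_rfl h).hyp_eq
    ((hE.sat hQ hF).normal_of_commutative (stronglyClosed_top E) fun x hx y hy => ?_)
  obtain ⟨x, hx', rfl⟩ := hE.exists_eq hx
  obtain ⟨y, hy', rfl⟩ := hE.exists_eq hy
  have h3 := h1 (commutator_mem_commutator hx' hy')
  rw [← commutatorElement_eq_one_iff_mul_comm, ← hE.hom.map_commutator hx' hy']
  exact (hE.ker _ (hQ.1 h3)).2 h3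

end Cfsg.Lib.Fusion
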