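import Cfsg.Agent.Lib.Fusion.Solv
import Cfsg.Agent.Lib.Fusion.Model
import Cfsg.Agent.Lib.Linear.Unip

/-! Fusion systems on the Sylow `p`-subgroups of `SL₃(K)`: a nontrivial normal subgroup forces the
system to be constrained. -/

set_option autoImplicit false
set_option linter.unusedSectionVars false

namespace Cfsg.Lib.Fusion
open Subgroup Cfsg.Lib.Transfer
open Cfsg.FusionSystem hiding inv_mem
open scoped commutatorElement

/-- Class two, abelian centralizers, and every coset of the centre outside the centre is a class. -/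
structure USpec (G : Type*) [Group G] : Prop where
  cls : ∀ x y z : G, Commute ⁅x, y⁆ z
  ca : ∀ x y z : G, x ∉ Subgroup.center G → Commute x y → Commute x z → Commute y z
  cam : ∀ x c : G, x ∉ Subgroup.center G → c ∈ Subgroup.center G → ∃ s, s * x * s⁻¹ = x * c

theorem USpec.of_equiv {G H : Type*} [Group G] [Group H] (h : USpec H) (e : G ≃* H) : USpec G := by
  have hc : ∀ x : G, x ∈ Subgroup.center G ↔ e x ∈ Subgroup.center H := fun x => by
    simp only [Subgroup.mem_center_iff]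
    refine ⟨fun h y => ?_, fun h y => e.injective ?_⟩
    · obtain ⟨y, rfl⟩ := e.surjective y
      rw [← map_mul, h, map_mul]
    · rw [map_mul, h, map_mul]
  have hm : ∀ x y : G, Commute x y ↔ Commute (e x) (e y) := fun x y =>
    ⟨fun h => h.map e, fun h => e.injective (by rw [map_mul, map_mul]; exact h)⟩
  refine ⟨fun x y z => ?_, fun x y z hx h1 h2 => ?_, fun x c hx hc' => ?_⟩
  · rw [hm, map_commutatorElement]; exact h.cls _ _ _
  · rw [hm] at h1 h2 ⊢; exact h.ca _ _ _ (by rwa [← hc]) h1 h2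
  · obtain ⟨s, hs⟩ := h.cam (e x) (e c) (by rwa [← hc]) (by rwa [← hc])
    obtain ⟨s, rfl⟩ := e.surjective s
    exact ⟨s, e.injective (by simpa using hs)⟩

section Fus
variable {p : ℕ} {Ω : Type*} [Group Ω] {S P Q U : Subgroup Ω} {F : FusionSystem S}
  [Fact p.Prime] [Finite S]

/-- A subgroup fused into the centre of `S` is centralized by its normalizer. -/
theorem Sat.conj_eq_of_isConj_central (hF : Sat F p) (h : F.IsConj P Q)
    (hQ : S ≤ centralizer (Q : Set Ω)) {s x : Ω} (hs : s ∈ normalizerIn S P) (hx : x ∈ P) :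
    s * x * s⁻¹ = x := by
  have hQS := isConj_le_right h
  have hPS := isConj_le_left h
  obtain ⟨f, hf, e⟩ := hF.exists_mor_normalizerIn
    (fullyNormalized_of_normal hQS (hQ.trans (centralizer_le_normalizer _))) h
  have hx' := le_normalizerIn hPS hx
  refine hf.injOn (mul_mem (mul_mem hs hx') (inv_mem hs)) hx' ?_
  rw [hf.homOn.map_conj hs hx']
  exact conj_eq_of_mem_centralizer (hQ (hf.mem hs)) (e ▸ mem_im_of_mem f hx)

/-- If `U ≤ Z(S)` is normal in `F` and `v` is fused into `Z(S)`, then no element of `S` moves `v`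
within `vU`. -/
theorem Sat.eq_one_of_central_normal (hF : Sat F p) (hU : F.IsNormal U)
    (hZ : S ≤ centralizer (U : Set Ω)) {f : Ω → Ω} (hf : Mor F P f) {z s c : Ω} (hz : z ∈ P)
    (hzc : ∀ t ∈ S, z * t = t * z) (hs : s ∈ S) (hc : c ∈ U)
    (e : s * f z * s⁻¹ = f z * c) : c = 1 := by
  have h1 := hf.mono (zpowers_le.2 hz)
  obtain ⟨g, hg, e1, e2⟩ := h1.ext_normal hU
  have hz' : g z = f z := e1 z (mem_zpowers z)
  have him : im g (zpowers z ⊔ U) = zpowers (f z) ⊔ U := by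
    rw [hg.homOn.im_sup, e2, (hg.homOn.mono le_sup_left).im_zpowers (mem_zpowers z), hz']
  have hconj : F.IsConj (zpowers (f z) ⊔ U) (zpowers z ⊔ U) := isConj_symm (him ▸ hg.isConj)
  have hcen : S ≤ centralizer ((zpowers z ⊔ U : Subgroup Ω) : Set Ω) := by
    rw [le_centralizer_iff]
    refine sup_le (zpowers_le.2 fun t ht => (hzc t ht).symm) (le_centralizer_iff.1 hZ)
  have := finite_of_le (isConj_le_left hconj)
  have hn : s ∈ normalizer ((zpowers (f z) ⊔ U : Subgroup Ω) : Set Ω) := by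
    refine mem_normalizer_of_conj_mem fun x hx => ?_
    refine (homOn_conj _ s).mem_of_sup (fun y hy => ?_) (fun y hy => ?_) x hx
    · obtain ⟨k, rfl⟩ := mem_zpowers_iff.1 hy
      rw [← conj_zpow, e]
      exact zpow_mem (mul_mem (mem_sup_left (mem_zpowers _)) (mem_sup_right hc)) k
    · rw [conj_eq_of_mem_centralizer (hZ hs) hy]; exact mem_sup_right hy
  have h2 := hF.conj_eq_of_isConj_central hconj hcen ⟨hs, hn⟩ (mem_sup_left (mem_zpowers _))
  rw [e] at h2
  simpa using h2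

theorem Sat.constrained_of_uspec (hF : Sat F p) (h : USpec S) (hc : F.core ≠ ⊥) :
    F.IsConstrained p := by
  have hcen : ∀ x : S, x ∈ Subgroup.center S ↔ ∀ t ∈ S, (x : Ω) * t = t * x := fun x => by
    simp only [Subgroup.mem_center_iff]
    exact ⟨fun h t ht => (congrArg Subtype.val (h ⟨t, ht⟩)).symm,
      fun h t => Subtype.ext (h t t.2).symm⟩
  have cls : ∀ x ∈ S, ∀ y ∈ S, ⁅x, y⁆ ∈ centralizerIn S S := fun x hx y hy =>
    mem_centralizerIn.2 ⟨by
      rw [commutatorElement_def]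
      exact mul_mem (mul_mem (mul_mem hx hy) (inv_mem hx)) (inv_mem hy), fun t ht =>
      (congrArg Subtype.val (h.cls ⟨x, hx⟩ ⟨y, hy⟩ ⟨t, ht⟩).eq).symm⟩
  have ca : ∀ x ∈ S, x ∉ centralizerIn S S → ∀ y ∈ S, ∀ z ∈ S, x * y = y * x → x * z = z * x →
      y * z = z * y := fun x hx hx' y hy z hz h1 h2 =>
    congrArg Subtype.val (h.ca ⟨x, hx⟩ ⟨y, hy⟩ ⟨z, hz⟩ (fun h => hx' (mem_centralizerIn.2
      ⟨hx, fun t ht => ((hcen _).1 h t ht).symm⟩)) (Subtype.ext h1) (Subtype.ext h2)).eq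
  have cam : ∀ x ∈ S, x ∉ centralizerIn S S → ∀ c ∈ centralizerIn S S,
      ∃ s ∈ S, s * x * s⁻¹ = x * c := fun x hx hx' c hc => by
    obtain ⟨s, hs⟩ := h.cam ⟨x, hx⟩ ⟨c, hc.1⟩ (fun h => hx' (mem_centralizerIn.2
      ⟨hx, fun t ht => ((hcen _).1 h t ht).symm⟩))
      ((hcen _).2 fun t ht => ((mem_centralizerIn.1 hc).2 t ht).symm)
    exact ⟨s, s.2, congrArg Subtype.val hs⟩
  -- essential subgroups move the centre
  have mv : ∀ E, F.IsEssential p E → centralizerIn S S ≤ E ∧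
      ¬ F.autGroup E ≤ stab E (centralizerIn S S) := fun E hE => by
    have hES : E ≤ S := hE.1.1
    have hZ : centralizerIn S S ≤ E :=
      (centralizerIn_anti S hES).trans (centralizerIn_le_of_centric hE.1)
    have := finite_of_le hES
    refine ⟨hZ, fun hst => (hF.lt_of_essential hE).not_ge fun s hs => ?_⟩
    refine mem_of_radical_of_stab hF.pg hE.1 (hF.radical_of_essential hE) hst
      ⟨hs, mem_normalizer_of_conj_mem fun x hx => ?_⟩
      (fun x hx => cls _ (inv_mem (hES hx)) _ hs) fun x _ hx => ?_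
    · have : s * x * s⁻¹ = ⁅s, x⁆ * x := by rw [commutatorElement_def]; group
      rw [this]; exact mul_mem (hZ (cls _ hs _ (hES hx))) hx
    · rw [(mem_centralizerIn.1 hx).2 s hs]; group
  -- hence are abelian
  have ab : ∀ E, F.IsEssential p E → ∀ x ∈ E, ∀ y ∈ E, x * y = y * x := fun E hE => by
    have hES : E ≤ S := hE.1.1
    have := finite_of_le (centralizerIn_le S S)
    by_contra hne
    refine (mv E hE).2 fun α hα => mem_stab_of_mem (mv E hE).1 fun z hz => ?_
    by_contra hz'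
    have hzE := (mv E hE).1 hz
    have key : ∀ x ∈ E, ext α z * x = x * ext α z := fun x hx => by
      have h1 := ext_mem α⁻¹ hx
      rw [← ext_ext_inv α x, ← (homOn_ext α).map_mul hzE h1, ← (homOn_ext α).map_mul h1 hzE,
        (mem_centralizerIn.1 hz).2 _ (hES h1)]
    exact hne fun x hx y hy => ca _ (hES (ext_mem α hzE)) hz' x (hES hx) y (hES hy)
      (key x hx) (key y hy)
  by_cases hE : ∃ E, F.IsEssential p E
  swap
  · exact ⟨hF.sat, S, hF.normal_top_iff.2 fun E h => hE ⟨E, h⟩, centric_top F⟩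
  obtain ⟨E, hE⟩ := hE
  have hES : E ≤ S := hE.1.1
  have hU := normal_core F
  have hle : ∀ E, F.IsEssential p E → F.core ≤ E := fun E hE =>
    le_of_normal_of_radical hF.pg hU hE.1 (hF.radical_of_essential hE)
  -- the core is not central
  have hnc : ¬ F.core ≤ centralizerIn S S := fun hZ => by
    have := finite_of_le (centralizerIn_le S S)
    obtain ⟨c, hc1, hc2⟩ : ∃ c ∈ F.core, c ≠ 1 := by
      by_contra hh
      exact hc ((eq_bot_iff_forall _).2 fun x hx => by_contra fun h => hh ⟨x, hx, h⟩)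
    refine (mv E hE).2 fun α hα => mem_stab_of_mem (mv E hE).1 fun z hz => ?_
    by_contra hz'
    have hzE := (mv E hE).1 hz
    obtain ⟨s, hs, e⟩ := cam _ (hES (ext_mem α hzE)) hz' c (hZ hc1)
    exact hc2 (hF.eq_one_of_central_normal hU (fun t ht u hu =>
      ((mem_centralizerIn.1 (hZ hu)).2 t ht).symm) (mor_ext hES hα) hzE
      (fun t ht => ((mem_centralizerIn.1 hz).2 t ht).symm) hs hc1 e)
  obtain ⟨u, hu, hu'⟩ := SetLike.not_le_iff_exists.1 hnc
  have hC : ∀ E, F.IsEssential p E → ∀ x ∈ S, u * x = x * u → x ∈ E := fun E hE x hx h1 =>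
    centralizerIn_le_of_centric hE.1 (mem_centralizerIn.2 ⟨hx, fun y hy =>
      ca u (core_le F hu) hu' y (hE.1.1 hy) x hx (ab E hE u (hle E hE hu) y hy) h1⟩)
  have := finite_of_le hES
  refine ⟨hF.sat, E, hF.normal_of_le_essential (weaklyClosed_iff.2 ⟨hES, fun f hf => ?_⟩)
    fun P hP x hx => hC P hP x (hES hx) (ab E hE u (hle E hE hu) x hx), hE.1⟩
  refine hf.im_eq_of_mem fun x hx => hC E hE _ (hf.mem hx) ?_
  have h1 := hf.im_eq_of_normal hU (hle E hE)
  obtain ⟨w, hw, rfl⟩ := ((hf.mono (hle E hE)).mem_im).1 (h1.symm ▸ hu)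
  rw [← hf.homOn.map_mul (hle E hE hw) hx, ← hf.homOn.map_mul hx (hle E hE hw),
    ab E hE w (hle E hE hw) x hx]

end Fus

section Mat
open Matrix Cfsg.Lib.Linear
variable {K : Type*} [Field K]

theorem uni3_eq (g : (unipSL (Fin.val : Fin 3 → ℕ) : Subgroup (SpecialLinearGroup (Fin 3) K))) :
    (g.1 : Matrix (Fin 3) (Fin 3) K) = !![1, g.1 0 1, g.1 0 2; 0, 1, g.1 1 2; 0, 0, 1] := by
  have h := mem_unipSL.1 g.2
  have h00 := h 0 0 (by decide)
  have h10 := h 1 0 (by decide)
  have h11 := h 1 1 (by decide)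
  have h20 := h 2 0 (by decide)
  have h21 := h 2 1 (by decide)
  have h22 := h 2 2 (by decide)
  simp only [Matrix.sub_apply, one_apply_eq, sub_eq_zero] at h00 h11 h22
  rw [Matrix.sub_apply, one_apply_ne (by decide), sub_zero] at h10 h20 h21
  ext i j
  fin_cases i <;> fin_cases j <;> simp [h00, h10, h11, h20, h21, h22]

/-- The unitriangular matrix with given entries. -/
def uni3 (a b c : K) : (unipSL (Fin.val : Fin 3 → ℕ) : Subgroup (SpecialLinearGroup (Fin 3) K)) :=
  ⟨⟨!![1, a, c; 0, 1, b; 0, 0, 1], by simp [det_fin_three]⟩, mem_unipSL.2 fun k l h => by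
    fin_cases k <;> fin_cases l <;> simp at h ⊢⟩

theorem exists_uni3 (g : (unipSL (Fin.val : Fin 3 → ℕ) : Subgroup (SpecialLinearGroup (Fin 3) K))) :
    ∃ a b c, g = uni3 a b c := ⟨_, _, _, Subtype.ext (Subtype.ext (uni3_eq g))⟩

theorem uni3_mul (a b c a' b' c' : K) :
    uni3 a b c * uni3 a' b' c' = uni3 (a + a') (b + b') (c + c' + a * b') := by
  refine Subtype.ext (Subtype.ext ?_)
  show (!![1, a, c; 0, 1, b; 0, 0, 1] * !![1, a', c'; 0, 1, b'; 0, 0, 1] :
    Matrix (Fin 3) (Fin 3) K) = !![1, a + a', c + c' + a * b'; 0, 1, b + b'; 0, 0, 1]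
  ext i j
  fin_cases i <;> fin_cases j <;> simp [Matrix.mul_apply, Fin.sum_univ_three] <;> ring

theorem uni3_inj {a b c a' b' c' : K} : uni3 a b c = uni3 a' b' c' ↔ a = a' ∧ b = b' ∧ c = c' := by
  refine ⟨fun h => ?_, fun h => by rw [h.1, h.2.1, h.2.2]⟩
  have h1 : (!![1, a, c; 0, 1, b; 0, 0, 1] : Matrix (Fin 3) (Fin 3) K) =
    !![1, a', c'; 0, 1, b'; 0, 0, 1] := congrArg (fun g => g.1.1) h
  exact ⟨congrFun (congrFun h1 0) 1, congrFun (congrFun h1 1) 2, congrFun (congrFun h1 0) 2⟩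

theorem uni3_commute {a b c a' b' c' : K} :
    Commute (uni3 a b c) (uni3 a' b' c') ↔ a * b' = a' * b := by
  rw [commute_iff_eq, uni3_mul, uni3_mul, uni3_inj]
  refine ⟨fun h => ?_, fun h => ⟨add_comm _ _, add_comm _ _, by rw [h]; ring⟩⟩
  linear_combination h.2.2

theorem uni3_center {a b c : K} : uni3 a b c ∈ Subgroup.center
    (unipSL (Fin.val : Fin 3 → ℕ) : Subgroup (SpecialLinearGroup (Fin 3) K)) ↔ a = 0 ∧ b = 0 := by
  rw [Subgroup.mem_center_iff]
  refine ⟨fun h => ⟨?_, ?_⟩, fun h g => ?_⟩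
  · simpa using (uni3_commute.1 (h (uni3 0 1 0))).symm
  · simpa using uni3_commute.1 (h (uni3 1 0 0))
  · obtain ⟨x, y, z, rfl⟩ := exists_uni3 g
    exact uni3_commute.2 (by rw [h.1, h.2]; ring)

theorem uspec_uni3 :
    USpec (unipSL (Fin.val : Fin 3 → ℕ) : Subgroup (SpecialLinearGroup (Fin 3) K)) := by
  refine ⟨fun x y z => ?_, fun x y z hx h1 h2 => ?_, fun x w hx hc => ?_⟩
  · obtain ⟨a, b, c, rfl⟩ := exists_uni3 x
    obtain ⟨a', b', c', rfl⟩ := exists_uni3 y
    have : ⁅uni3 a b c, uni3 a' b' c'⁆ = uni3 0 0 (a * b' - a' * b) := by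
      rw [commutatorElement_def, mul_inv_eq_iff_eq_mul, mul_inv_eq_iff_eq_mul, uni3_mul, uni3_mul,
        uni3_mul, uni3_inj]
      exact ⟨by ring, by ring, by ring⟩
    rw [this]
    exact (Subgroup.mem_center_iff.1 (uni3_center.2 ⟨rfl, rfl⟩) z).symm
  · obtain ⟨a, b, c, rfl⟩ := exists_uni3 x
    obtain ⟨a', b', c', rfl⟩ := exists_uni3 y
    obtain ⟨a'', b'', c'', rfl⟩ := exists_uni3 z
    rw [uni3_commute] at h1 h2 ⊢
    rw [uni3_center, not_and_or] at hx
    rcases hx with h | h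
    · refine mul_left_cancel₀ h ?_
      linear_combination a' * h2 - a'' * h1
    · refine mul_left_cancel₀ h ?_
      linear_combination b' * h2 - b'' * h1
  · obtain ⟨a, b, c, rfl⟩ := exists_uni3 x
    obtain ⟨a', b', c', rfl⟩ := exists_uni3 w
    rw [uni3_center] at hc
    obtain ⟨rfl, rfl⟩ := hc
    rw [uni3_center, not_and_or] at hx
    rcases hx with h | h
    · refine ⟨uni3 0 (-c' / a) 0, ?_⟩
      rw [mul_inv_eq_iff_eq_mul, uni3_mul, uni3_mul, uni3_mul, uni3_inj]
      exact ⟨by ring, by ring, by field_simp; ring⟩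
    · refine ⟨uni3 (c' / b) 0 0, ?_⟩
      rw [mul_inv_eq_iff_eq_mul, uni3_mul, uni3_mul, uni3_mul, uni3_inj]
      exact ⟨by ring, by ring, by field_simp; ring⟩

theorem uspec_sylow_sl3 [Fintype K] {p : ℕ} [Fact p.Prime] [CharP K p]
    (T : Sylow p (SpecialLinearGroup (Fin 3) K)) : USpec (T : Subgroup (SpecialLinearGroup (Fin 3) K)) :=
  (show USpec (sylowSL 3 K p : Subgroup (SpecialLinearGroup (Fin 3) K)) from uspec_uni3).of_equiv
    (T.equiv (sylowSL 3 K p))

end Mat

end Cfsg.Lib.Fusion
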